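import Groth.Agent.Lib.AdicLim.Noeth
import Groth.Agent.Lib.CMFree.Regular
import Mathlib.RingTheory.AdicCompletion.LocalRing
import Mathlib.RingTheory.AdicCompletion.AsTensorProduct
import Mathlib.RingTheory.Ideal.GoingDown
import Mathlib.RingTheory.DiscreteValuationRing.TFAE
import Mathlib.RingTheory.KrullDimension.PID

/-! Adic completions: Noetherianity, dimension, regularity. -/

namespace GrothLib.AdicExtra

universe u

open IsLocalRing AdicCompletion

theorem isNoetherianRing_adicCompletion_of_fg {R : Type u} [CommRing R] (I : Ideal R) (hI : I.FG)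
    [IsNoetherianRing (R ⧸ I)] : IsNoetherianRing (AdicCompletion I R) := by
  set J := I.map (algebraMap R (AdicCompletion I R)) with hJ
  have : IsAdicComplete J (AdicCompletion I R) := AdicCompletion.isAdicComplete_self I hI
  have e : (AdicCompletion I R ⧸ J) ≃+* R ⧸ I :=
    (Ideal.quotEquivOfEq (AdicCompletion.ker_evalOneₐ_eq_map I hI).symm).trans
      (RingHom.quotientKerEquivOfSurjective (f := (evalOneₐ I).toRingHom) (evalOneₐ_surjective I))
  have : IsNoetherianRing (AdicCompletion I R ⧸ J) := isNoetherianRing_of_ringEquiv _ e.symm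
  exact GrothLib.AdicLim.isNoetherianRing_of_complete (I := J) (hI.map _)

instance isNoetherianRing_adicCompletion {R : Type u} [CommRing R] [IsNoetherianRing R]
    (I : Ideal R) : IsNoetherianRing (AdicCompletion I R) :=
  isNoetherianRing_adicCompletion_of_fg I I.fg_of_isNoetherianRing

variable {A : Type u} [CommRing A] [IsLocalRing A] [IsNoetherianRing A]

theorem ringKrullDim_adicCompletion :
    ringKrullDim (AdicCompletion (maximalIdeal A) A) = ringKrullDim A := by
  set B := AdicCompletion (maximalIdeal A) A
  have hover : (maximalIdeal B).LiesOver (maximalIdeal A) :=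
    ⟨(IsLocalRing.maximalIdeal_comap (algebraMap A B)).symm⟩
  have h := Ideal.height_eq_height_add_of_liesOver_of_hasGoingDown (maximalIdeal A) (maximalIdeal B)
  have hm : (maximalIdeal B).map (Ideal.Quotient.mk ((maximalIdeal A).map (algebraMap A B))) = ⊥ := by
    rw [← AdicCompletion.maximalIdeal_eq_map, Ideal.map_quotient_self]
  rw [← IsLocalRing.maximalIdeal_height_eq_ringKrullDim,
    ← IsLocalRing.maximalIdeal_height_eq_ringKrullDim, h, hm]
  have : Nontrivial (B ⧸ (maximalIdeal A).map (algebraMap A B)) :=
    Ideal.Quotient.nontrivial_iff.2 (by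
      rw [← AdicCompletion.maximalIdeal_eq_map]; exact Ideal.IsPrime.ne_top')
  simp [Ideal.height_bot]

theorem isRegularLocalRing_adicCompletion_iff :
    IsRegularLocalRing A ↔ IsRegularLocalRing (AdicCompletion (maximalIdeal A) A) := by
  rw [isRegularLocalRing_iff, isRegularLocalRing_iff, AdicCompletion.spanFinrank_maximalIdeal_eq,
    ringKrullDim_adicCompletion]

/-- A Noetherian local ring is a DVR iff it is regular of dimension one. -/
theorem exists_dvr_iff_regular_dim_one :
    (∃ _ : IsDomain A, IsDiscreteValuationRing A) ↔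
      IsRegularLocalRing A ∧ ringKrullDim A = 1 := by
  constructor
  · rintro ⟨hd, hv⟩
    exact ⟨inferInstance,
      IsPrincipalIdealRing.ringKrullDim_eq_one A (IsDiscreteValuationRing.not_isField A)⟩
  · rintro ⟨hr, hdim⟩
    have hd : IsDomain A := GrothLib.CMFree.isDomain_of_isRegularLocalRing A
    have hnf : ¬ IsField A := fun hf => by
      have := ringKrullDim_eq_zero_of_isField hf
      rw [this] at hdim
      exact zero_ne_one hdim
    have hs : (maximalIdeal A).spanFinrank = 1 := by
      have h := (isRegularLocalRing_iff A).1 hr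
      rw [hdim] at h
      exact_mod_cast h
    have hp : Submodule.IsPrincipal (maximalIdeal A) :=
      ((Submodule.spanFinrank_eq_one_iff (maximalIdeal A)).1 hs).1
    exact ⟨hd, ((IsDiscreteValuationRing.TFAE A hnf).out 0 4).2 hp⟩

theorem exists_dvr_adicCompletion_iff :
    (∃ _ : IsDomain A, IsDiscreteValuationRing A) ↔
      ∃ _ : IsDomain (AdicCompletion (maximalIdeal A) A),
        IsDiscreteValuationRing (AdicCompletion (maximalIdeal A) A) := by
  rw [exists_dvr_iff_regular_dim_one, exists_dvr_iff_regular_dim_one,
    isRegularLocalRing_adicCompletion_iff, ringKrullDim_adicCompletion]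

end GrothLib.AdicExtra
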