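import Groth.Agent.Lib.AdicLim.Basic
import Groth.Agent.Lib.AdicLim.System
import Mathlib.RingTheory.AdicCompletion.Completeness
import Mathlib.RingTheory.Finiteness.Ideal

/-! Criteria for adic completeness of modules. -/

namespace GrothLib.AdicExtra

universe u v w

variable {A : Type u} [CommRing A] {I J : Ideal A} {M : Type v} [AddCommGroup M] [Module A M]

theorem isHausdorff_of_le (hle : ∀ n, ∃ m, I ^ m ≤ J ^ n) [IsHausdorff J M] : IsHausdorff I M := by
  refine ⟨fun x hx => IsHausdorff.haus (inferInstance : IsHausdorff J M) x fun n => ?_⟩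
  obtain ⟨m, hm⟩ := hle n
  exact SModEq.mono (Submodule.smul_mono_left hm) (hx m)

theorem sub_mem_of_forall_succ {x : ℕ → M} (hx : ∀ {m n}, m ≤ n → x m ≡ x n [SMOD (I ^ m • ⊤ : Submodule A M)])
    {m n : ℕ} (h : m ≤ n) : x n - x m ∈ (I ^ m • ⊤ : Submodule A M) :=
  SModEq.sub_mem.1 (hx h).symm

/-- A finitely generated module criterion: modulo `I` finite, separated, ring complete. -/
theorem finite_of_quotient_finite [IsPrecomplete I A] [IsHausdorff I M]
    (h : Module.Finite A (M ⧸ (I • ⊤ : Submodule A M))) : Module.Finite A M := by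
  classical
  obtain ⟨s, hs⟩ := h.fg_top
  choose l hl using fun y : s => Submodule.mkQ_surjective (I • ⊤ : Submodule A M) (y : M ⧸ _)
  have hsup : (⊤ : Submodule A M) ≤ Submodule.span A (Set.range l) ⊔ I • ⊤ := by
    intro x _
    have h1 : Submodule.map (I • ⊤ : Submodule A M).mkQ (Submodule.span A (Set.range l)) = ⊤ := by
      rw [Submodule.map_span, ← Set.range_comp, eq_top_iff, ← hs]
      refine Submodule.span_mono ?_
      intro y hy
      exact ⟨⟨y, hy⟩, hl _⟩
    have h2 : Submodule.mkQ _ x ∈ Submodule.map (I • ⊤ : Submodule A M).mkQ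
        (Submodule.span A (Set.range l)) := h1.symm ▸ trivial
    rwa [← Submodule.mem_comap, Submodule.comap_map_mkQ, sup_comm] at h2
  refine ⟨⟨Finset.univ.image l, eq_top_iff.2 fun x _ => ?_⟩⟩
  obtain ⟨c, -, rfl⟩ := GrothLib.AdicLim.exists_coeff_of_pow_step (I := I) l 0
    (fun n y => y ∈ (I ^ n • ⊤ : Submodule A M)) (fun _ _ hy => hy)
    (fun n y hy => by
      have : y ∈ I ^ n • (Submodule.span A (Set.range l)) ⊔ (I ^ (n + 1) • ⊤ : Submodule A M) := by
        have h3 := Submodule.smul_mono (le_refl (I ^ n)) hsup hy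
        rwa [Submodule.smul_sup, ← Submodule.mul_smul, ← pow_succ] at h3
      obtain ⟨a, ha, b, hb, rfl⟩ := Submodule.mem_sup.1 this
      obtain ⟨c, hc, rfl⟩ := (Submodule.mem_ideal_smul_span_iff_exists_sum _ _ _).1 ha
      refine ⟨c, by simpa using hc, ?_⟩
      rw [Finsupp.sum_fintype _ _ (by simp)]
      simpa using hb)
    (x := x) (by simp)
  exact Submodule.sum_mem _ fun i _ => Submodule.smul_mem _ _ (Submodule.subset_span (by simp))

/-- If `I ≤ J`, `I` is finitely generated and `M` is `J`-complete, then `M` is `I`-complete. -/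
theorem isAdicComplete_of_le (hIJ : I ≤ J) (hI : I.FG) [IsAdicComplete J M] :
    IsAdicComplete I M := by
  classical
  have : IsHausdorff I M := isHausdorff_of_le (J := J) fun n => ⟨n, Ideal.pow_right_mono hIJ n⟩
  refine { prec' := fun x hx => ?_ }
  obtain ⟨L, hL⟩ := IsPrecomplete.prec (inferInstance : IsPrecomplete J M) (f := x)
    (fun {m n} h => SModEq.mono (Submodule.smul_mono_left (Ideal.pow_right_mono hIJ m)) (hx h))
  refine ⟨L, fun n => ?_⟩
  obtain ⟨r, a, ha⟩ := Submodule.fg_iff_exists_fin_generating_family.1 (hI.pow (n := n))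
  have hstep : ∀ k, ∃ y : Fin r → M, (∀ j, y j ∈ (I ^ k • ⊤ : Submodule A M)) ∧
      ∑ j, a j • y j = x (n + k + 1) - x (n + k) := by
    intro k
    have hm : x (n + k + 1) - x (n + k) ∈ (I ^ n • (I ^ k • ⊤) : Submodule A M) := by
      rw [← Submodule.mul_smul, ← pow_add]
      exact sub_mem_of_forall_succ hx (Nat.le_succ _)
    rw [← ha] at hm
    refine Submodule.smul_induction_on hm ?_ ?_
    · intro b hb q hq
      obtain ⟨c, rfl⟩ := (Submodule.mem_span_range_iff_exists_fun A).1 hb
      exact ⟨fun j => c j • q, fun j => Submodule.smul_mem _ _ hq, by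
        rw [Finset.sum_smul]
        exact Finset.sum_congr rfl fun j _ => by rw [smul_smul, smul_eq_mul, mul_comm]⟩
    · rintro p q ⟨y, hy, rfl⟩ ⟨y', hy', rfl⟩
      exact ⟨y + y', fun j => add_mem (hy j) (hy' j), by
        simp [Finset.sum_add_distrib, smul_add]⟩
  choose y hy hyx using hstep
  let S : ℕ → Fin r → M := fun k j => ∑ i ∈ Finset.range k, y i j
  have hS : ∀ j, ∃ Y : M, ∀ k, S k j ≡ Y [SMOD (J ^ k • ⊤ : Submodule A M)] := by
    intro j
    refine IsPrecomplete.prec (inferInstance : IsPrecomplete J M) fun {m p} h => ?_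
    rw [SModEq.sub_mem]
    show (∑ i ∈ Finset.range m, y i j) - (∑ i ∈ Finset.range p, y i j) ∈ _
    rw [← neg_sub, ← Finset.sum_Ico_eq_sub _ h]
    refine neg_mem (Submodule.sum_mem _ fun i hi => ?_)
    exact Submodule.smul_mono_left (Ideal.pow_right_mono hIJ m)
      (Submodule.smul_mono_left (Ideal.pow_le_pow_right (Finset.mem_Ico.1 hi).1) (hy i j))
  choose Y hY using hS
  have htel : ∀ k, x (n + k) = x n + ∑ j, a j • S k j := by
    intro k
    induction k with
    | zero => simp [S]
    | succ k ih =>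
      have : ∑ j, a j • S (k + 1) j = ∑ j, a j • S k j + (x (n + k + 1) - x (n + k)) := by
        rw [← hyx k, ← Finset.sum_add_distrib]
        exact Finset.sum_congr rfl fun j _ => by rw [← smul_add]; simp [S, Finset.sum_range_succ]
      rw [this, ← add_assoc (x n), ← ih, ← add_assoc n k 1]
      abel
  have heq : L = x n + ∑ j, a j • Y j := by
    refine sub_eq_zero.1 (IsHausdorff.haus (inferInstance : IsHausdorff J M) _ fun k => ?_)
    rw [SModEq.zero]
    have h1 : L - x (n + k) ∈ (J ^ k • ⊤ : Submodule A M) :=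
      Submodule.smul_mono_left (Ideal.pow_le_pow_right (by omega)) (SModEq.sub_mem.1 (hL (n + k)).symm)
    have h2 : (∑ j, a j • S k j) - ∑ j, a j • Y j ∈ (J ^ k • ⊤ : Submodule A M) := by
      rw [← Finset.sum_sub_distrib]
      refine Submodule.sum_mem _ fun j _ => ?_
      rw [← smul_sub]
      exact Submodule.smul_mem _ _ (SModEq.sub_mem.1 (hY j k))
    have h3 := add_mem h1 h2
    convert! h3 using 1
    rw [htel k]; abel
  rw [SModEq.sub_mem, heq, sub_add_cancel_left]
  exact neg_mem (Submodule.sum_mem _ fun j _ =>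
    Submodule.smul_mem_smul (ha ▸ Submodule.subset_span ⟨j, rfl⟩) trivial)

/-- A retract of a complete module is complete. -/
theorem isAdicComplete_of_retract {N : Type w} [AddCommGroup N] [Module A N] [IsAdicComplete I N]
    (i : M →ₗ[A] N) (r : N →ₗ[A] M) (h : ∀ x, r (i x) = x) : IsAdicComplete I M := by
  have hmap : ∀ {P Q : Submodule A N} (n : ℕ) (x : N), x ∈ (I ^ n • ⊤ : Submodule A N) →
      r x ∈ (I ^ n • ⊤ : Submodule A M) := fun n x hx =>
    Submodule.smul_top_le_comap_smul_top (I ^ n) r hx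
  have hmapi : ∀ (n : ℕ) (x : M), x ∈ (I ^ n • ⊤ : Submodule A M) →
      i x ∈ (I ^ n • ⊤ : Submodule A N) := fun n x hx =>
    Submodule.smul_top_le_comap_smul_top (I ^ n) i hx
  refine { haus' := fun x hx => ?_, prec' := fun x hx => ?_ }
  · have : i x = 0 := IsHausdorff.haus (inferInstance : IsHausdorff I N) _ fun n => by
      rw [SModEq.zero]; exact hmapi n x (SModEq.zero.1 (hx n))
    rw [← h x, this, map_zero]
  · obtain ⟨L, hL⟩ := IsPrecomplete.prec (inferInstance : IsPrecomplete I N) (f := fun n => i (x n))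
      (fun {m n} hmn => by
        rw [SModEq.sub_mem, ← map_sub]; exact hmapi m _ (SModEq.sub_mem.1 (hx hmn)))
    refine ⟨r L, fun n => ?_⟩
    rw [SModEq.sub_mem]
    have := hmap (P := ⊥) (Q := ⊥) n _ (SModEq.sub_mem.1 (hL n))
    rwa [map_sub, h] at this

/-- An inverse limit of modules killed by powers of a finitely generated ideal is complete. -/
theorem isAdicComplete_limit (hI : I.FG) {Ms : ℕ → Type v} [∀ n, AddCommGroup (Ms n)]
    [∀ n, Module A (Ms n)] (f : ∀ n, Ms (n + 1) →ₗ[A] Ms n)
    (hkill : ∀ n, I ^ (n + 1) • (⊤ : Submodule A (Ms n)) = ⊥)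
    {L : Type v} [AddCommGroup L] [Module A L] (π : ∀ n, L →ₗ[A] Ms n)
    (hπ : ∀ n, f n ∘ₗ π (n + 1) = π n) (hinj : ∀ x : L, (∀ n, π n x = 0) → x = 0)
    (hlift : ∀ y : (∀ n, Ms n), (∀ n, f n (y (n + 1)) = y n) → ∃ x : L, ∀ n, π n x = y n) :
    IsAdicComplete I L := by
  have hle : ∀ n, (I ^ (n + 1) • ⊤ : Submodule A L) ≤ LinearMap.ker (π n) := fun n => by
    refine (Submodule.smul_top_le_comap_smul_top _ (π n)).trans ?_
    rw [hkill n]
    exact le_rfl
  let q : ∀ n, AdicCompletion I L →ₗ[A] Ms n := fun n =>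
    ((I ^ (n + 1) • ⊤ : Submodule A L).liftQ (π n) (hle n)) ∘ₗ AdicCompletion.eval I L (n + 1)
  have hq : ∀ x n, f n (q (n + 1) x) = q n x := fun x n => by
    show f n (Submodule.liftQ _ _ (hle (n + 1)) (x.val (n + 2))) =
      Submodule.liftQ _ _ (hle n) (x.val (n + 1))
    rw [← x.prop (show n + 1 ≤ n + 2 by omega)]
    obtain ⟨z, hz⟩ := Submodule.mkQ_surjective _ (x.val (n + 2))
    rw [← hz]
    exact LinearMap.congr_fun (hπ n) z
  choose r hr using fun x : AdicCompletion I L => hlift (fun n => q n x) (hq x)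
  let R : AdicCompletion I L →ₗ[A] L :=
    { toFun := r
      map_add' := fun x y => sub_eq_zero.1 (hinj _ fun n => by simp [hr, map_add, map_sub])
      map_smul' := fun a x => sub_eq_zero.1 (hinj _ fun n => by simp [hr, map_smul, map_sub]) }
  have : IsAdicComplete I (AdicCompletion I L) := AdicCompletion.isAdicComplete hI
  refine isAdicComplete_of_retract (AdicCompletion.of I L) R fun x => ?_
  refine sub_eq_zero.1 (hinj _ fun n => ?_)
  show π n (r (AdicCompletion.of I L x) - x) = 0
  rw [map_sub, hr]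
  exact sub_self _

theorem isPrecomplete_of_surjective {N : Type w} [AddCommGroup N] [Module A N] [IsPrecomplete I M]
    (g : M →ₗ[A] N) (hg : Function.Surjective g) : IsPrecomplete I N := by
  rw [← AdicCompletion.of_surjective_iff]
  intro y
  obtain ⟨x, rfl⟩ := AdicCompletion.map_surjective I hg y
  obtain ⟨m, rfl⟩ := AdicCompletion.of_surjective I M x
  exact ⟨g m, by ext n; simp⟩

theorem isAdicComplete_quotient_iff [IsAdicComplete I M] (K : Submodule A M) :
    IsAdicComplete I (M ⧸ K) ↔ K = ⨅ n : ℕ, K ⊔ (I ^ n • ⊤ : Submodule A M) := by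
  have hcomap : ∀ n, (I ^ n • ⊤ : Submodule A (M ⧸ K)).comap K.mkQ = K ⊔ (I ^ n • ⊤ : Submodule A M) :=
    fun n => by
      have : (I ^ n • ⊤ : Submodule A (M ⧸ K)) = (I ^ n • ⊤ : Submodule A M).map K.mkQ := by
        rw [Submodule.map_smul'', Submodule.map_top, Submodule.range_mkQ]
      rw [this, Submodule.comap_map_mkQ]
  constructor
  · intro h
    refine le_antisymm (le_iInf fun n => le_sup_left) fun x hx => ?_
    rw [Submodule.mem_iInf] at hx
    rw [← Submodule.Quotient.mk_eq_zero]
    refine IsHausdorff.haus h.toIsHausdorff _ fun n => ?_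
    rw [SModEq.zero]
    have := hx n
    rw [← hcomap] at this
    exact this
  · intro h
    have : IsPrecomplete I (M ⧸ K) := isPrecomplete_of_surjective K.mkQ K.mkQ_surjective
    refine { haus' := fun x hx => ?_ }
    obtain ⟨x, rfl⟩ := K.mkQ_surjective x
    rw [Submodule.mkQ_apply, Submodule.Quotient.mk_eq_zero, h, Submodule.mem_iInf]
    intro n
    rw [← hcomap]
    rw [Submodule.mem_comap]
    exact SModEq.zero.1 (hx n)

theorem isAdicComplete_of_pow_le {c d : ℕ} (hc : 0 < c) (hd : 0 < d) (hI : I ^ c ≤ J) (hJ : J ^ d ≤ I)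
    [IsAdicComplete I M] : IsAdicComplete J M := by
  have hJ' : ∀ n, J ^ (d * n) ≤ I ^ n := fun n => by rw [pow_mul]; exact Ideal.pow_right_mono hJ n
  have hI' : ∀ n, I ^ (c * n) ≤ J ^ n := fun n => by rw [pow_mul]; exact Ideal.pow_right_mono hI n
  have : IsHausdorff J M := isHausdorff_of_le (J := I) fun n => ⟨d * n, hJ' n⟩
  refine { prec' := fun x hx => ?_ }
  obtain ⟨L, hL⟩ := IsPrecomplete.prec (inferInstance : IsPrecomplete I M) (f := fun n => x (d * n))
    (fun {m n} h => SModEq.mono (Submodule.smul_mono_left (hJ' m)) (hx (Nat.mul_le_mul_left d h)))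
  refine ⟨L, fun n => ?_⟩
  have h1 : x (d * (c * n)) ≡ L [SMOD (J ^ n • ⊤ : Submodule A M)] :=
    SModEq.mono (Submodule.smul_mono_left (hI' n)) (hL (c * n))
  refine SModEq.trans (hx ?_) h1
  calc n = 1 * (1 * n) := by omega
    _ ≤ d * (c * n) := Nat.mul_le_mul hd (Nat.mul_le_mul hc le_rfl)

theorem ker_eval_le_of_isPrecomplete [IsPrecomplete I (AdicCompletion I M)] (n : ℕ)
    (x : AdicCompletion I M) :
    ∃ y : M, x - AdicCompletion.of I M y ∈ (I ^ n • ⊤ : Submodule A (AdicCompletion I M)) := by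
  obtain ⟨a, rfl⟩ := AdicCompletion.mk_surjective I M x
  obtain ⟨z, hz⟩ := IsPrecomplete.prec (inferInstance : IsPrecomplete I (AdicCompletion I M))
    (f := fun m => AdicCompletion.of I M (a m)) (fun {m p} h => by
      rw [SModEq.sub_mem, ← map_sub]
      exact Submodule.smul_top_le_comap_smul_top _ _ (SModEq.sub_mem.1 (a.property h)))
  have : z = AdicCompletion.mk I M a := by
    refine AdicCompletion.ext fun m => ?_
    have h := AdicCompletion.pow_smul_top_le_ker_eval I m (SModEq.sub_mem.1 (hz m).symm)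
    rw [LinearMap.mem_ker, map_sub, sub_eq_zero] at h
    simpa using h
  exact ⟨a n, this ▸ SModEq.sub_mem.1 (hz n).symm⟩

theorem isAdicComplete_adicCompletion_iff :
    IsAdicComplete I (AdicCompletion I M) ↔
      ∀ n : ℕ, LinearMap.ker (AdicCompletion.eval I M n) =
        (I ^ n • ⊤ : Submodule A (AdicCompletion I M)) := by
  constructor
  · intro h n
    refine le_antisymm (fun x hx => ?_) (AdicCompletion.pow_smul_top_le_ker_eval I n)
    obtain ⟨y, hy⟩ := ker_eval_le_of_isPrecomplete (I := I) n x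
    have h2 : AdicCompletion.eval I M n (x - AdicCompletion.of I M y) = 0 :=
      AdicCompletion.pow_smul_top_le_ker_eval I n hy
    rw [map_sub, LinearMap.mem_ker.1 hx, zero_sub, neg_eq_zero, AdicCompletion.eval_of,
      Submodule.mkQ_apply, Submodule.Quotient.mk_eq_zero] at h2
    have := add_mem hy (Submodule.smul_top_le_comap_smul_top (I ^ n) (AdicCompletion.of I M) h2)
    simpa using this
  · intro h
    refine { prec' := fun x hx => ?_ }
    let L : AdicCompletion I M := ⟨fun i => (x i).val i, fun {m n} h' => by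
      have h1 := SModEq.sub_mem.1 (hx h')
      rw [← h m, LinearMap.mem_ker, map_sub, sub_eq_zero] at h1
      simp only [AdicCompletion.eval_apply] at h1
      show AdicCompletion.transitionMap I M h' ((x n).val n) = (x m).val m
      exact ((x n).prop h').trans h1.symm⟩
    refine ⟨L, fun n => ?_⟩
    rw [SModEq.sub_mem, ← h n, LinearMap.mem_ker, map_sub, sub_eq_zero]
    rfl

theorem isAdicComplete_adicCompletion_iff_exists :
    IsAdicComplete I (AdicCompletion I M) ↔
      ∀ (n : ℕ) (x : AdicCompletion I M), ∃ y : M,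
        x - AdicCompletion.of I M y ∈ (I ^ n • ⊤ : Submodule A (AdicCompletion I M)) := by
  refine ⟨fun h n x => ker_eval_le_of_isPrecomplete n x, fun h => ?_⟩
  rw [isAdicComplete_adicCompletion_iff]
  refine fun n => le_antisymm (fun x hx => ?_) (AdicCompletion.pow_smul_top_le_ker_eval I n)
  obtain ⟨y, hy⟩ := h n x
  have h2 : AdicCompletion.eval I M n (x - AdicCompletion.of I M y) = 0 :=
    AdicCompletion.pow_smul_top_le_ker_eval I n hy
  rw [map_sub, LinearMap.mem_ker.1 hx, zero_sub, neg_eq_zero, AdicCompletion.eval_of,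
    Submodule.mkQ_apply, Submodule.Quotient.mk_eq_zero] at h2
  simpa using add_mem hy (Submodule.smul_top_le_comap_smul_top (I ^ n) (AdicCompletion.of I M) h2)

theorem exists_retraction :
    ∃ ψ : AdicCompletion I (AdicCompletion I M) →ₗ[A] AdicCompletion I M,
      ψ ∘ₗ AdicCompletion.of I (AdicCompletion I M) = LinearMap.id := by
  let g : ∀ n, AdicCompletion I (AdicCompletion I M) →ₗ[A] M ⧸ (I ^ n • ⊤ : Submodule A M) := fun n =>
    ((I ^ n • ⊤ : Submodule A (AdicCompletion I M)).liftQ (AdicCompletion.eval I M n)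
      (AdicCompletion.pow_smul_top_le_ker_eval I n)) ∘ₗ AdicCompletion.eval I (AdicCompletion I M) n
  refine ⟨AdicCompletion.lift I g ?_, ?_⟩
  · intro m n h
    refine LinearMap.ext fun x => ?_
    show AdicCompletion.transitionMap I M h (g n x) = g m x
    simp only [g, LinearMap.comp_apply, AdicCompletion.eval_apply]
    rw [← x.prop h]
    obtain ⟨z, hz⟩ := Submodule.mkQ_surjective _ (x.val n)
    rw [← hz]
    exact z.prop h
  · ext x n
    rfl

theorem isAdicComplete_fst {N : Type v} [AddCommGroup N] [Module A N] [IsAdicComplete I (M × N)] :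
    IsAdicComplete I M :=
  isAdicComplete_of_retract (LinearMap.inl A M N) (LinearMap.fst A M N) fun _ => rfl

end GrothLib.AdicExtra
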