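import Groth.Agent.Lib.AdicExtra.Complete
import Groth.Agent.Lib.AdicLim.Finite
import Groth.Agent.Lib.Hensel.SplitSurjOn
import Mathlib.RingTheory.Henselian
import Mathlib.RingTheory.Localization.Submodule
import Mathlib.RingTheory.IntegralClosure.IsIntegralClosure.Basic

/-!
# Finite algebras over complete Noetherian local rings
-/

universe u

open IsLocalRing Polynomial

namespace GrothLib.AdicExtra

theorem surjOn_idempotents {S : Type u} [CommRing S] (J : Ideal S) [IsAdicComplete J S] :
    Set.SurjOn (Ideal.Quotient.mk J) {e : S | IsIdempotentElem e} {e | IsIdempotentElem e} := by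
  intro e' he'
  obtain ⟨b, rfl⟩ := Ideal.Quotient.mk_surjective e'
  have hb : b * b - b ∈ J := Ideal.Quotient.eq.1 ((map_mul _ _ _).trans he')
  have hmonic : ((X : S[X]) ^ 2 - X).Monic :=
    monic_X_pow_sub (by exact degree_X_le.trans_lt (by norm_num))
  obtain ⟨e, he, heb⟩ := HenselianRing.is_henselian (R := S) (I := J) _ hmonic b
    (by simpa [sq] using hb) (by
      have h2 : (2 * b - 1) * (2 * b - 1) - 1 ∈ J := by
        rw [show (2 * b - 1) * (2 * b - 1) - 1 = 4 * (b * b - b) by ring]
        exact J.mul_mem_left _ hb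
      refine IsUnit.of_mul_eq_one (Ideal.Quotient.mk J (2 * b - 1)) ?_
      rw [← map_mul, ← map_one (Ideal.Quotient.mk J), Ideal.Quotient.eq]
      simpa [one_add_one_eq_two] using h2)
  refine ⟨e, ?_, Ideal.Quotient.eq.2 heb⟩
  rw [Set.mem_setOf_eq, IsIdempotentElem, ← sub_eq_zero]
  simpa [IsRoot, sq] using he

theorem isAdicComplete_localRing {R : Type u} [CommRing R] [IsLocalRing R] [IsNoetherianRing R]
    [IsAdicComplete (maximalIdeal R) R] {S : Type u} [CommRing S] [Algebra R S] [Module.Finite R S]
    [IsLocalRing S] [IsNoetherianRing S] : IsAdicComplete (maximalIdeal S) S := by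
  have : IsAdicComplete (maximalIdeal R) S :=
    GrothLib.AdicLim.isAdicComplete_of_finite (maximalIdeal R) S
  set J := (maximalIdeal R).map (algebraMap R S) with hJdef
  have hJ : IsAdicComplete J S := (IsAdicComplete.map_algebraMap_iff _ _).2 this
  have hrad : maximalIdeal S ≤ J.radical := by
    rw [Ideal.radical_eq_sInf]
    refine le_sInf fun P hP => ?_
    have := hP.2
    have hcomap : P.comap (algebraMap R S) = maximalIdeal R :=
      ((maximalIdeal.isMaximal R).eq_of_le (Ideal.IsPrime.ne_top inferInstance)
        (Ideal.map_le_iff_le_comap.1 hP.1)).symm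
    have : P.IsMaximal := Ideal.isMaximal_of_isIntegral_of_isMaximal_comap (R := R) P
      (hcomap ▸ maximalIdeal.isMaximal R)
    exact (IsLocalRing.eq_maximalIdeal this).ge
  obtain ⟨d, hd⟩ := Ideal.exists_pow_le_of_le_radical_of_fg hrad (IsNoetherian.noetherian _)
  rcases Nat.eq_zero_or_pos d with rfl | hd0
  · rw [pow_zero, Ideal.one_eq_top, top_le_iff] at hd
    have hJle : J ≤ maximalIdeal S :=
      le_maximalIdeal fun e => by
        have := IsAdicComplete.le_jacobson_bot J
        rw [e, top_le_iff, Ideal.jacobson_eq_top_iff] at this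
        exact bot_ne_top this
    exact absurd (top_le_iff.1 (hd ▸ hJle)) (maximalIdeal.isMaximal S).ne_top
  refine isAdicComplete_of_pow_le (I := J) (c := 1) (d := d) one_pos hd0 ?_ hd
  rw [pow_one]
  refine le_maximalIdeal fun e => ?_
  have := IsAdicComplete.le_jacobson_bot J
  rw [e, top_le_iff, Ideal.jacobson_eq_top_iff] at this
  exact bot_ne_top this

theorem finite_algebra_pi_localizations (R : Type u) [CommRing R] [IsLocalRing R]
    [IsNoetherianRing R] [IsAdicComplete (maximalIdeal R) R]
    (S : Type u) [CommRing S] [Algebra R S] [Module.Finite R S] :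
    Finite (MaximalSpectrum S) ∧
      Function.Bijective (algebraMap S ((m : MaximalSpectrum S) → Localization.AtPrime m.asIdeal)) ∧
      ∀ m : MaximalSpectrum S, IsNoetherianRing (Localization.AtPrime m.asIdeal) ∧
        IsAdicComplete (maximalIdeal (Localization.AtPrime m.asIdeal))
          (Localization.AtPrime m.asIdeal) := by
  have : IsNoetherianRing S := IsNoetherianRing.of_finite R S
  have : IsAdicComplete ((maximalIdeal R).map (algebraMap R S)) S :=
    (IsAdicComplete.map_algebraMap_iff _ _).2
      (GrothLib.AdicLim.isAdicComplete_of_finite (maximalIdeal R) S)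
  obtain ⟨_, e, he, hnot, huniq, hloc⟩ :=
    GrothLib.Hensel.exists_completeOrthogonalIdempotents_of_surjOn (R := R) (S := S) (surjOn_idempotents _)
  have hbij := GrothLib.Hensel.pi_localization_bijective he hnot huniq hloc
  refine ⟨inferInstance, hbij, fun m => ?_⟩
  have hN : IsNoetherianRing (Localization.AtPrime m.asIdeal) :=
    IsLocalization.isNoetherianRing m.asIdeal.primeCompl _ inferInstance
  classical
  have hsurj : Function.Surjective (algebraMap S (Localization.AtPrime m.asIdeal)) := fun y => by
    obtain ⟨x, hx⟩ := hbij.2 (Pi.single m y)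
    exact ⟨x, by simpa using congrFun hx m⟩
  have : Module.Finite R (Localization.AtPrime m.asIdeal) :=
    Module.Finite.of_surjective (IsScalarTower.toAlgHom R S _).toLinearMap hsurj
  exact ⟨hN, isAdicComplete_localRing (R := R)⟩

end GrothLib.AdicExtra
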