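import Groth.Agent.Lib.AdicExtra.Finite
import Groth.Agent.Lib.AdicLim.Finite
import Groth.Agent.Lib.Flatness.Fibre
import Mathlib.RingTheory.Flat.FaithfullyFlat.Algebra
import Mathlib.RingTheory.RingHom.Flat
import Mathlib.Algebra.Module.Torsion.Basic
import Mathlib.LinearAlgebra.TensorProduct.Free

/-! Completions of local rings and of local homomorphisms. -/

namespace GrothLib.AdicExtra

universe u v

open IsLocalRing Function

theorem isNoetherian_of_algebraMap_surjective {R S : Type*} [CommRing R] [CommRing S] [Algebra R S]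
    {M : Type*} [AddCommGroup M] [Module R M] [Module S M] [IsScalarTower R S M] [IsNoetherian S M]
    (h : Surjective (algebraMap R S)) : IsNoetherian R M := by
  refine ⟨fun p => ?_⟩
  obtain ⟨s, hs⟩ := IsNoetherian.noetherian (Submodule.span S (p : Set M))
  refine ⟨s, ?_⟩
  rw [← Submodule.restrictScalars_span R S h, hs, Submodule.restrictScalars_span R S h,
    Submodule.span_eq]

/-- Chevalley's lemma. -/
theorem exists_le_maximalIdeal_pow {R : Type u} [CommRing R] [IsNoetherianRing R] [IsLocalRing R]
    [IsAdicComplete (maximalIdeal R) R] (I : ℕ → Ideal R) (hI : Antitone I)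
    (hinf : ⨅ s, I s = ⊥) (n : ℕ) : ∃ s : ℕ, I s ≤ maximalIdeal R ^ n := by
  set m := maximalIdeal R
  have hstab : ∀ k, ∃ t, ∀ s, t ≤ s → I t ≤ I s ⊔ m ^ k := by
    intro k
    rcases k with _ | k
    · exact ⟨0, fun s _ => by simp⟩
    have : Nontrivial (R ⧸ m ^ (k + 1)) := Ideal.Quotient.nontrivial_iff.2
      (ne_top_of_le_ne_top (maximalIdeal.isMaximal R).ne_top (Ideal.pow_le_self k.succ_ne_zero))
    have := IsLocalRing.of_surjective' (Ideal.Quotient.mk (m ^ (k + 1))) Ideal.Quotient.mk_surjective
    have : IsArtinianRing (R ⧸ m ^ (k + 1)) := by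
      rw [isArtinianRing_iff_isNilpotent_maximalIdeal]
      refine ⟨k + 1, ?_⟩
      rw [← IsLocalRing.eq_maximalIdeal (Ideal.IsMaximal.map_of_surjective_of_ker_le
        (f := Ideal.Quotient.mk (m ^ (k + 1))) (m := m) Ideal.Quotient.mk_surjective
        (by rw [Ideal.mk_ker]; exact Ideal.pow_le_self k.succ_ne_zero)), ← Ideal.map_pow]
      exact Ideal.map_quotient_self _
    obtain ⟨t, ht⟩ := IsArtinian.monotone_stabilizes (R := R ⧸ m ^ (k + 1)) (M := R ⧸ m ^ (k + 1))
      ⟨fun s => OrderDual.toDual ((I s).map (Ideal.Quotient.mk (m ^ (k + 1)))),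
        fun a b h => Ideal.map_mono (hI h)⟩
    refine ⟨t, fun s hs x hx => ?_⟩
    have h1 : Ideal.Quotient.mk (m ^ (k + 1)) x ∈ (I s).map (Ideal.Quotient.mk (m ^ (k + 1))) := by
      have h2 : (I t).map (Ideal.Quotient.mk (m ^ (k + 1))) =
          (I s).map (Ideal.Quotient.mk (m ^ (k + 1))) := ht s hs
      rw [← h2]; exact Ideal.mem_map_of_mem _ hx
    rwa [← Ideal.mem_comap, Ideal.comap_map_of_surjective' _ Ideal.Quotient.mk_surjective,
      Ideal.mk_ker] at h1
  choose t ht using hstab
  let T : ℕ → ℕ := fun j => j + ∑ i ∈ Finset.range (j + 1), t i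
  have hT1 : ∀ j, j ≤ T j := fun j => Nat.le_add_right _ _
  have hT2 : ∀ j, t j ≤ T j := fun j => (Finset.single_le_sum (fun i _ => Nat.zero_le _)
    (Finset.self_mem_range_succ j)).trans (Nat.le_add_left _ _)
  have hstep : ∀ j, ∀ x ∈ I (T j), ∃ y ∈ I (T (j + 1)), y - x ∈ m ^ j := by
    intro j x hx
    have h1 : x ∈ I (T (j + 1)) ⊔ m ^ j := ht j _ ((hT2 j).trans (by
      show j + _ ≤ j + 1 + _
      have : ∑ i ∈ Finset.range (j + 1), t i ≤ ∑ i ∈ Finset.range (j + 1 + 1), t i :=
        Finset.sum_le_sum_of_subset (Finset.range_mono (Nat.le_succ _))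
      omega)) (hI (hT2 j) hx)
    obtain ⟨y, hy, z, hz, rfl⟩ := Submodule.mem_sup.1 h1
    exact ⟨y, hy, by simpa using hz⟩
  choose g hg hgx using hstep
  refine ⟨T n, fun x₀ hx₀ => ?_⟩
  let y : (i : ℕ) → {x : R // x ∈ I (T (n + i))} := fun i => Nat.rec ⟨x₀, hx₀⟩
    (fun i x => ⟨g (n + i) x.1 x.2, hg _ _ _⟩) i
  have hy : ∀ i, ((y (i + 1)).1 : R) - (y i).1 ∈ m ^ (n + i) := fun i => hgx _ _ _
  have hc : ∀ {a b}, a ≤ b → ((y b).1 : R) - (y a).1 ∈ m ^ (n + a) := by
    intro a b h
    induction h with
    | refl => simp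
    | @step b hab ih =>
      have := add_mem (Ideal.pow_le_pow_right (Nat.add_le_add_left hab n) (hy b)) ih
      simpa using this
  obtain ⟨L, hL⟩ := IsPrecomplete.prec (inferInstance : IsPrecomplete m R) (f := fun i => (y i).1)
    (fun {a b} h => by
      rw [SModEq.sub_mem, Ideal.smul_eq_mul, Ideal.mul_top, ← neg_sub]
      exact neg_mem (Ideal.pow_le_pow_right (Nat.le_add_left a n) (hc h)))
  have hL' : ∀ i, ((y i).1 : R) - L ∈ m ^ i := fun i => by
    simpa using SModEq.sub_mem.1 (hL i)
  have hLs : ∀ s, L ∈ I s := by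
    intro s
    rw [← Ideal.Quotient.eq_zero_iff_mem]
    refine IsHausdorff.haus (inferInstance : IsHausdorff m (R ⧸ I s)) _ fun i => ?_
    rw [SModEq.zero]
    have h2 : ((y (i + s)).1 : R) ∈ I s :=
      hI (le_trans (Nat.le_add_left s (n + i)) (by rw [add_assoc]; exact hT1 _)) (y (i + s)).2
    have h3 : ((y (i + s)).1 : R) - L ∈ (m ^ i • ⊤ : Submodule R R) := by
      rw [Ideal.smul_eq_mul, Ideal.mul_top]
      exact Ideal.pow_le_pow_right (Nat.le_add_right i s) (hL' _)
    have h4 := Submodule.smul_top_le_comap_smul_top _ (I s).mkQ h3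
    rw [Submodule.mem_comap, map_sub, Submodule.mkQ_apply, (Submodule.Quotient.mk_eq_zero _).2 h2,
      zero_sub, neg_mem_iff] at h4
    exact h4
  have hL0 : L = 0 := by
    have : L ∈ ⨅ s, I s := (Submodule.mem_iInf _).2 hLs
    simpa [hinf] using this
  have h5 : (y n).1 ∈ m ^ n := by simpa [hL0] using hL' n
  have := sub_mem h5 (Ideal.pow_le_pow_right (Nat.le_add_right n 0) (hc (Nat.zero_le n)))
  simpa [y] using this

theorem isAdicComplete_sqZero {A : Type u} {E : Type v} [CommRing A] [CommRing E]
    [IsNoetherianRing A] {J : Ideal A} [IsAdicComplete J A] (f : E →+* A) (hf : Surjective f)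
    (hsq : RingHom.ker f ^ 2 = ⊥) (hfg : (RingHom.ker f).FG) : IsAdicComplete (J.comap f) E := by
  set K : Ideal E := RingHom.ker f
  set J' := J.comap f
  let e : (E ⧸ K) ≃+* A := RingHom.quotientKerEquivOfSurjective hf
  have : IsNoetherianRing (E ⧸ K) := isNoetherianRing_of_ringEquiv A e.symm
  have hJ : J'.map (algebraMap E (E ⧸ K)) = J.map e.symm.toRingHom := by
    have hcomp : e.toRingHom.comp (Ideal.Quotient.mk K) = f := RingHom.ext fun x => rfl
    rw [RingEquiv.toRingHom_eq_coe] at hcomp ⊢
    rw [show (J.map (e.symm : A →+* E ⧸ K)) = J.comap (e : E ⧸ K →+* A) from Ideal.map_symm _]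
    apply Ideal.comap_injective_of_surjective (algebraMap E (E ⧸ K)) Ideal.Quotient.mk_surjective
    rw [Ideal.Quotient.algebraMap_eq, Ideal.comap_map_of_surjective' _ Ideal.Quotient.mk_surjective,
      Ideal.mk_ker, Ideal.comap_comap, sup_eq_left.2 (show K ≤ J' from Ideal.ker_le_comap f)]
    rw [hcomp]
  have hA' : IsAdicComplete (J'.map (algebraMap E (E ⧸ K))) (E ⧸ K) := by
    rw [hJ]
    exact (IsAdicComplete.congr_ringEquiv J e.symm).2 inferInstance
  have htors : Module.IsTorsionBySet E K (K : Set E) := fun x a => by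
    apply Subtype.ext
    have : (a : E) * (x : E) ∈ K ^ 2 := by rw [pow_two]; exact Ideal.mul_mem_mul a.2 x.2
    rwa [hsq, Ideal.mem_bot] at this
  let _ : Module (E ⧸ K) K := htors.module
  have : IsScalarTower E (E ⧸ K) K := htors.isScalarTower
  have : Module.Finite E K := Module.Finite.iff_fg.2 hfg
  have : Module.Finite (E ⧸ K) K := Module.Finite.of_restrictScalars_finite E _ _
  have hK : IsAdicComplete J' K := (IsAdicComplete.map_algebraMap_iff _ _).1
    (GrothLib.AdicLim.isAdicComplete_of_finite (J'.map (algebraMap E (E ⧸ K))) K)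
  have hQ : IsAdicComplete J' (E ⧸ K) := (IsAdicComplete.map_algebraMap_iff _ _).1 hA'
  have : IsNoetherianRing E := by
    have hsurj : Surjective (algebraMap E (E ⧸ K)) := Ideal.Quotient.mk_surjective
    have h1 : IsNoetherian E K :=
      isNoetherian_of_algebraMap_surjective (S := E ⧸ K) hsurj
    have h2 : IsNoetherian E (E ⧸ K) :=
      isNoetherian_of_algebraMap_surjective (S := E ⧸ K) hsurj
    exact isNoetherian_of_range_eq_ker K.subtype K.mkQ (by simp)
  rw [← AdicCompletion.of_bijective_iff]
  refine ⟨(injective_iff_map_eq_zero _).2 fun x hx => ?_, fun y => ?_⟩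
  · have h1 : AdicCompletion.of J' (E ⧸ K) (K.mkQ x) = 0 := by
      rw [← AdicCompletion.map_of, hx, map_zero]
    have h2 := (AdicCompletion.of_bijective J' (E ⧸ K)).1 (h1.trans (map_zero _).symm)
    have hxK : x ∈ K := (Submodule.Quotient.mk_eq_zero _).1 h2
    have h3 : AdicCompletion.of J' K ⟨x, hxK⟩ = 0 := by
      apply AdicCompletion.map_injective J' (f := K.subtype) Subtype.val_injective
      rw [AdicCompletion.map_of, map_zero]; exact hx
    exact congrArg Subtype.val ((AdicCompletion.of_bijective J' K).1 (h3.trans (map_zero _).symm))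
  · obtain ⟨z, hz⟩ := (AdicCompletion.of_bijective J' (E ⧸ K)).2 (AdicCompletion.map J' K.mkQ y)
    obtain ⟨x, rfl⟩ := K.mkQ_surjective z
    obtain ⟨k, hk⟩ := (AdicCompletion.map_exact K.injective_subtype
      (LinearMap.exact_subtype_mkQ K) K.mkQ_surjective (y - AdicCompletion.of J' E x)).1 (by
        rw [map_sub, AdicCompletion.map_of, ← hz, sub_self])
    obtain ⟨k, rfl⟩ := (AdicCompletion.of_bijective J' K).2 k
    rw [AdicCompletion.map_of] at hk
    exact ⟨x + (k : E), by rw [map_add]; exact (add_comm _ _).trans (eq_sub_iff_add_eq.1 hk)⟩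

section ideal

variable {A : Type u} [CommRing A] [IsLocalRing A] [IsNoetherianRing A] {I : Ideal A}

theorem isLocalRing_completion (hI : I ≠ ⊤) : IsLocalRing (AdicCompletion I A) := by
  have : Nontrivial (A ⧸ I) := Ideal.Quotient.nontrivial_iff.2 hI
  have := IsLocalRing.of_surjective' (Ideal.Quotient.mk I) Ideal.Quotient.mk_surjective
  have : IsLocalHom (AdicCompletion.evalOneₐ I).toRingHom :=
    ⟨fun x hx => isUnit_of_isUnit_evalOne x hx⟩
  exact RingHom.domain_isLocalRing (AdicCompletion.evalOneₐ I).toRingHom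

theorem completion_of_ne_top (hI : I ≠ ⊤) :
    ringKrullDim (AdicCompletion I A) = ringKrullDim A ∧
      (IsRegularLocalRing A ↔ IsRegularLocalRing (AdicCompletion I A)) := by
  classical
  set B := AdicCompletion I A
  have := isLocalRing_completion hI
  have hle : I ≤ maximalIdeal A := le_maximalIdeal hI
  have hfg : I.FG := I.fg_of_isNoetherianRing
  have hmax : maximalIdeal B = (maximalIdeal A).map (algebraMap A B) :=
    (IsLocalRing.eq_maximalIdeal
      (AdicCompletion.isMaximal_map_of_le I (maximalIdeal A) hle hfg)).symm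
  have hloc : IsLocalHom (algebraMap A B) :=
    ((IsLocalRing.local_hom_TFAE (algebraMap A B)).out 0 2).mpr hmax.ge
  have hover : (maximalIdeal B).LiesOver (maximalIdeal A) :=
    ⟨(IsLocalRing.maximalIdeal_comap (algebraMap A B)).symm⟩
  have hdim : ringKrullDim B = ringKrullDim A := by
    have h := Ideal.height_eq_height_add_of_liesOver_of_hasGoingDown (maximalIdeal A) (maximalIdeal B)
    have hm : (maximalIdeal B).map (Ideal.Quotient.mk ((maximalIdeal A).map (algebraMap A B))) = ⊥ := by
      rw [← hmax, Ideal.map_quotient_self]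
    have : Nontrivial (B ⧸ (maximalIdeal A).map (algebraMap A B)) :=
      Ideal.Quotient.nontrivial_iff.2 (by rw [← hmax]; exact Ideal.IsPrime.ne_top')
    rw [← IsLocalRing.maximalIdeal_height_eq_ringKrullDim,
      ← IsLocalRing.maximalIdeal_height_eq_ringKrullDim, h, hm]
    simp [Ideal.height_bot]
  refine ⟨hdim, ?_⟩
  suffices hspan : (maximalIdeal B).spanFinrank = (maximalIdeal A).spanFinrank by
    rw [isRegularLocalRing_iff, isRegularLocalRing_iff, hspan, hdim]
  refine le_antisymm ?_ ?_
  · obtain ⟨d, a, ha⟩ : ∃ (d : ℕ) (a : Fin d → A), d = (maximalIdeal A).spanFinrank ∧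
        Submodule.span A (Set.range a) = maximalIdeal A := by
      have hg := (maximalIdeal A).fg_of_isNoetherianRing
      have hfin := Submodule.FG.finite_generators hg
      let s := hfin.toFinset
      refine ⟨s.card, fun i => (s.equivFin.symm i : A), ?_, ?_⟩
      · rw [← Set.ncard_eq_toFinset_card _ hfin, Submodule.FG.generators_ncard hg]
      · rw [show Set.range (fun i => (s.equivFin.symm i : A)) = (s : Set A) by
          ext x; simp [Set.range_comp' Subtype.val s.equivFin.symm],
          Set.Finite.coe_toFinset]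
        exact Submodule.span_generators _
    rw [← ha.1, hmax, ← ha.2, ← Ideal.span, Ideal.map_span, ← Set.range_comp]
    refine (Submodule.spanFinrank_span_le_ncard_of_finite (Set.finite_range _)).trans ?_
    exact (Nat.card_coe_set_eq _).symm.trans_le
      ((Finite.card_range_le (algebraMap A B ∘ a)).trans_eq (Nat.card_fin d))
  · have hfgB : (maximalIdeal B).FG := (maximalIdeal B).fg_of_isNoetherianRing
    have hfin := Submodule.FG.finite_generators hfgB
    have happ : ∀ x : B, x ∈ maximalIdeal B → ∃ a ∈ maximalIdeal A,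
        x - algebraMap A B a ∈ (maximalIdeal B) ^ 2 := by
      intro x hx
      obtain ⟨a, ha⟩ := Submodule.mkQ_surjective _ (AdicCompletion.eval I A 2 x)
      have h1 : x - algebraMap A B a ∈ (maximalIdeal B) ^ 2 := by
        have h2 : x - algebraMap A B a ∈ (I ^ 2 • ⊤ : Submodule A B) := by
          rw [AdicCompletion.pow_smul_top_eq_ker_eval hfg, LinearMap.mem_ker, map_sub, ← ha]
          exact sub_self _
        rw [Ideal.smul_top_eq_map, Submodule.restrictScalars_mem, Ideal.map_pow] at h2
        rw [hmax]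
        exact Ideal.pow_right_mono (Ideal.map_mono hle) 2 h2
      refine ⟨a, ?_, h1⟩
      rw [← IsLocalRing.maximalIdeal_comap (algebraMap A B), Ideal.mem_comap]
      simpa using sub_mem hx (Ideal.pow_le_self two_ne_zero h1)
    choose a ha hax using happ
    have hmemB : ∀ x : (maximalIdeal B).generators, (x : B) ∈ maximalIdeal B := fun x =>
      Submodule.FG.generators_mem _ x.2
    let s : Set A := Set.range fun x : (maximalIdeal B).generators => a x (hmemB x)
    have hs : Ideal.span s = maximalIdeal A := by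
      have h1 : (Ideal.span s).map (algebraMap A B) = maximalIdeal B := by
        refine le_antisymm ?_ ?_
        · rw [hmax]
          exact Ideal.map_mono (Ideal.span_le.2 (by rintro _ ⟨x, rfl⟩; exact ha _ _))
        refine Submodule.le_of_le_smul_of_le_jacobson_bot hfgB (maximalIdeal_le_jacobson _) ?_
        conv_lhs => rw [← Submodule.span_generators (maximalIdeal B)]
        rw [Submodule.span_le]
        intro x hx
        rw [SetLike.mem_coe, Submodule.mem_sup]
        refine ⟨algebraMap A B (a x (hmemB ⟨x, hx⟩)),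
          Ideal.mem_map_of_mem _ (Ideal.subset_span ⟨⟨x, hx⟩, rfl⟩),
          x - algebraMap A B (a x (hmemB ⟨x, hx⟩)), ?_, by abel⟩
        rw [smul_eq_mul, ← pow_two]
        exact hax _ _
      have : Module.FaithfullyFlat A B := Module.FaithfullyFlat.of_flat_of_isLocalHom
      rw [← Ideal.comap_map_eq_self_of_faithfullyFlat (B := B) (Ideal.span s), h1,
        IsLocalRing.maximalIdeal_comap]
    rw [← hs]
    have := hfin.to_subtype
    refine (Submodule.spanFinrank_span_le_ncard_of_finite (Set.finite_range _)).trans ?_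
    rw [← Submodule.FG.generators_ncard hfgB]
    exact (Finite.card_range_le _).trans_eq (Nat.card_coe_set_eq _)

end ideal

section map

variable {A B : Type u} [CommRing A] [CommRing B] [IsLocalRing A] [IsLocalRing B]
  [IsNoetherianRing A] [IsNoetherianRing B] [Algebra A B] [IsLocalHom (algebraMap A B)]
  (ψ : AdicCompletion (maximalIdeal A) A →+* AdicCompletion (maximalIdeal B) B)
  (hψ : ψ.comp (algebraMap A (AdicCompletion (maximalIdeal A) A)) =
    (algebraMap B (AdicCompletion (maximalIdeal B) B)).comp (algebraMap A B))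

include hψ in
theorem maximalIdeal_map_completion :
    (maximalIdeal (AdicCompletion (maximalIdeal A) A)).map ψ =
      ((maximalIdeal A).map (algebraMap A B)).map
        (algebraMap B (AdicCompletion (maximalIdeal B) B)) := by
  rw [AdicCompletion.maximalIdeal_eq_map, Ideal.map_map, hψ, ← Ideal.map_map]

include hψ in
theorem isLocalHom_completion : IsLocalHom ψ := by
  refine ((IsLocalRing.local_hom_TFAE ψ).out 0 2).mpr ?_
  rw [maximalIdeal_map_completion ψ hψ, AdicCompletion.maximalIdeal_eq_map]
  exact Ideal.map_mono (GrothLib.Flatness.map_maximalIdeal_le)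

include hψ in
theorem flat_completion_iff : ψ.Flat ↔ (algebraMap A B).Flat := by
  set Â := AdicCompletion (maximalIdeal A) A
  set B' := AdicCompletion (maximalIdeal B) B
  let _ : Algebra Â B' := ψ.toAlgebra
  have : IsScalarTower A Â B' := IsScalarTower.of_algebraMap_eq' hψ.symm
  have : IsLocalHom (algebraMap B B') := inferInstance
  rw [RingHom.flat_algebraMap_iff]
  constructor
  · intro h
    have : Module.Flat Â B' := h
    have : Module.Flat A B' := Module.Flat.trans A Â B'
    have : Module.FaithfullyFlat B B' := Module.FaithfullyFlat.of_flat_of_isLocalHom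
    exact GrothLib.Flatness.flat_of_faithfullyFlat (R := A) (S := B) (M := B')
  · intro h
    have : Module.Flat A B' := Module.Flat.trans A B B'
    have hl := isLocalHom_completion ψ hψ
    have : IsLocalHom (algebraMap Â B') := hl
    have h1 := GrothLib.Flatness.lTensor_map_injective (R := A) (S := Â) (M := B') (maximalIdeal A)
    rw [← AdicCompletion.maximalIdeal_eq_map] at h1
    let _ : Field (Â ⧸ maximalIdeal Â) := Ideal.Quotient.field _
    show Module.Flat Â B'
    exact GrothLib.Flatness.flat_of_localCriterion (S := B') (maximalIdeal Â)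
      GrothLib.Flatness.map_maximalIdeal_le_jacobson h1 inferInstance

include hψ in
theorem bijective_completion [Module.Flat A B]
    (hm : (maximalIdeal A).map (algebraMap A B) = maximalIdeal B)
    (hk : Bijective (ResidueField.map (algebraMap A B))) : Bijective ψ := by
  set Â := AdicCompletion (maximalIdeal A) A
  set B' := AdicCompletion (maximalIdeal B) B
  let _ : Algebra Â B' := ψ.toAlgebra
  have : IsLocalHom (algebraMap Â B') := isLocalHom_completion ψ hψ
  have : Module.Flat Â B' :=
    (flat_completion_iff ψ hψ).2 (RingHom.flat_algebraMap_iff.2 inferInstance)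
  have hmap : (maximalIdeal Â).map (algebraMap Â B') = maximalIdeal B' := by
    show (maximalIdeal Â).map ψ = _
    rw [maximalIdeal_map_completion ψ hψ, hm, ← AdicCompletion.maximalIdeal_eq_map]
  have : IsHausdorff (maximalIdeal Â) B' := by
    rw [← IsHausdorff.map_algebraMap_iff (S := B'), hmap]
    infer_instance
  set q : B' →ₗ[Â] B' ⧸ (maximalIdeal Â • ⊤ : Submodule Â B') := Submodule.mkQ _
  have hspan : (⊤ : Submodule Â B') ≤ Submodule.span Â {1} ⊔ maximalIdeal Â • ⊤ := by
    intro x _
    obtain ⟨r, hr⟩ := (AdicCompletion.residueField_map_bijective B).2 (residue _ x)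
    obtain ⟨r', rfl⟩ := hk.2 r
    obtain ⟨a, rfl⟩ := residue_surjective r'
    rw [ResidueField.map_residue, ResidueField.map_residue] at hr
    have h1 : x - algebraMap B B' (algebraMap A B a) ∈ maximalIdeal B' := by
      rw [← residue_eq_zero_iff, map_sub, ← hr, sub_self]
    refine Submodule.mem_sup.2 ⟨algebraMap B B' (algebraMap A B a), ?_,
      x - algebraMap B B' (algebraMap A B a), ?_, by abel⟩
    · refine Submodule.mem_span_singleton.2 ⟨algebraMap A Â a, ?_⟩
      rw [Algebra.smul_def, mul_one]
      exact RingHom.congr_fun hψ a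
    · rw [Ideal.smul_top_eq_map, Submodule.restrictScalars_mem, hmap]
      exact h1
  have : Module.Finite Â B' := by
    refine finite_of_quotient_finite (I := maximalIdeal Â) ⟨⟨{q 1}, eq_top_iff.2 fun y _ => ?_⟩⟩
    obtain ⟨x, rfl⟩ := Submodule.mkQ_surjective _ y
    obtain ⟨z, hz, w, hw, rfl⟩ := Submodule.mem_sup.1 (hspan (Submodule.mem_top (x := x)))
    obtain ⟨c, rfl⟩ := Submodule.mem_span_singleton.1 hz
    have : (Submodule.mkQ _ (c • (1 : B') + w) : B' ⧸ (maximalIdeal Â • ⊤ : Submodule Â B')) = c • q 1 := by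
      rw [map_add, map_smul, Submodule.mkQ_apply _ w, (Submodule.Quotient.mk_eq_zero _).2 hw, add_zero]
    rw [this]
    exact Submodule.smul_mem _ _ (Submodule.subset_span (by simp))
  have hsurj : Surjective (algebraMap Â B') := by
    have : (⊤ : Submodule Â B') ≤ Submodule.span Â {1} :=
      Submodule.le_of_le_smul_of_le_jacobson_bot Module.Finite.fg_top
        (maximalIdeal_le_jacobson _) hspan
    intro x
    obtain ⟨c, rfl⟩ := Submodule.mem_span_singleton.1 (this (Submodule.mem_top (x := x)))
    exact ⟨c, by rw [Algebra.smul_def, mul_one]⟩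
  have : Module.FaithfullyFlat Â B' := Module.FaithfullyFlat.of_flat_of_isLocalHom
  refine ⟨?_, hsurj⟩
  rw [show (⇑ψ) = ⇑(algebraMap Â B') from rfl, injective_iff_map_eq_zero]
  intro x hx
  have h2 := Ideal.comap_map_eq_self_of_faithfullyFlat (A := Â) (B := B') ⊥
  rw [Ideal.map_bot] at h2
  rw [← Ideal.mem_bot, ← h2, Ideal.mem_comap, hx]
  exact Ideal.zero_mem _

include hψ in
theorem flat_and_unramified_of_bijective (hbij : Bijective ψ) :
    Module.Flat A B ∧ (maximalIdeal A).map (algebraMap A B) = maximalIdeal B := by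
  refine ⟨RingHom.flat_algebraMap_iff.1 ((flat_completion_iff ψ hψ).1 (RingHom.Flat.of_bijective hbij)), ?_⟩
  set B' := AdicCompletion (maximalIdeal B) B
  have : IsLocalHom (algebraMap B B') := inferInstance
  have : Module.FaithfullyFlat B B' := Module.FaithfullyFlat.of_flat_of_isLocalHom
  have h1 : ((maximalIdeal A).map (algebraMap A B)).map (algebraMap B B') =
      (maximalIdeal B).map (algebraMap B B') := by
    rw [← maximalIdeal_map_completion ψ hψ, ← AdicCompletion.maximalIdeal_eq_map]
    let e := RingEquiv.ofBijective ψ hbij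
    exact IsLocalRing.eq_maximalIdeal (Ideal.map_isMaximal_of_equiv e)
  rw [← Ideal.comap_map_eq_self_of_faithfullyFlat (B := B') ((maximalIdeal A).map _), h1,
    Ideal.comap_map_eq_self_of_faithfullyFlat]

end map

end GrothLib.AdicExtra
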