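import Groth.Agent.Lib.AdicExtra.Units
import Groth.Agent.Lib.AdicExtra.Completion
import Mathlib.RingTheory.AdicCompletion.Exactness
import Mathlib.RingTheory.AdicCompletion.AsTensorProduct
import Mathlib.RingTheory.Flat.Equalizer
import Mathlib.RingTheory.Nakayama

/-! Exactness of adic completion. -/

namespace GrothLib.AdicExtra

universe u

open Function

variable {A : Type u} [CommRing A] {I : Ideal A}
variable {K M N : Type u} [AddCommGroup K] [Module A K] [AddCommGroup M] [Module A M]
  [AddCommGroup N] [Module A N]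

theorem smul_top_le_map {g : M →ₗ[A] N} (hg : Surjective g) (n : ℕ) :
    (I ^ n • ⊤ : Submodule A N) = (I ^ n • ⊤ : Submodule A M).map g := by
  rw [Submodule.map_smul'', Submodule.map_top, LinearMap.range_eq_top.2 hg]

theorem map_injective_of_bound (i : K →ₗ[A] M) (c : ℕ)
    (h : ∀ n, (I ^ (n + c) • ⊤ : Submodule A M).comap i ≤ (I ^ n • ⊤ : Submodule A K)) :
    Injective (AdicCompletion.map I i) := by
  rw [injective_iff_map_eq_zero]
  intro x hx
  obtain ⟨a, rfl⟩ := AdicCompletion.mk_surjective I K x
  refine AdicCompletion.mk_zero_of _ _ _ ⟨0, fun n _ => ⟨n + c, by omega, n, le_rfl, h n ?_⟩⟩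
  simpa using congrArg (fun z => z.val (n + c)) hx

theorem map_exact_of_bound (i : K →ₗ[A] M) (g : M →ₗ[A] N) (hg : Surjective g) (hig : Exact i g)
    (c : ℕ) (h : ∀ n, (I ^ (n + c) • ⊤ : Submodule A M).comap i ≤ (I ^ n • ⊤ : Submodule A K)) :
    Exact (AdicCompletion.map I i) (AdicCompletion.map I g) := by
  intro y
  refine ⟨fun hy => ?_, ?_⟩
  · obtain ⟨b, rfl⟩ := AdicCompletion.mk_surjective I M y
    have hb : ∀ n, ∃ k : K, b n - i k ∈ (I ^ n • ⊤ : Submodule A M) := by
      intro n
      have h1 : g (b n) ∈ (I ^ n • ⊤ : Submodule A N) := by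
        simpa using congrArg (fun z => z.val n) hy
      rw [smul_top_le_map hg] at h1
      obtain ⟨e, he, hge⟩ := h1
      obtain ⟨k, hk⟩ := (hig (b n - e)).1 (by rw [map_sub, hge, sub_self])
      exact ⟨k, by rwa [hk, sub_sub_cancel]⟩
    choose k hk using hb
    refine ⟨AdicCompletion.mk I K (AdicCompletion.AdicCauchySequence.mk I K (fun n => k (n + c))
      fun n => ?_), ?_⟩
    · rw [SModEq.sub_mem]
      refine h n ?_
      rw [Submodule.mem_comap, map_sub]
      have h1 : b (n + c) - b (n + 1 + c) ∈ (I ^ (n + c) • ⊤ : Submodule A M) :=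
        SModEq.sub_mem.1 (b.property (by omega))
      have h2 := Submodule.smul_mono_left (N := (⊤ : Submodule A M))
        (Ideal.pow_le_pow_right (show n + c ≤ n + 1 + c by omega) (I := I)) (hk (n + 1 + c))
      have := add_mem (sub_mem h1 (hk (n + c))) h2
      convert! this using 1
      abel
    · refine AdicCompletion.ext fun n => ?_
      simp only [AdicCompletion.map_mk, AdicCompletion.mk_apply_coe, Submodule.mkQ_apply,
        AdicCompletion.AdicCauchySequence.map_apply_coe, AdicCompletion.AdicCauchySequence.mk_coe]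
      rw [Submodule.Quotient.eq]
      have h1 := Submodule.smul_mono_left (N := (⊤ : Submodule A M))
        (Ideal.pow_le_pow_right (show n ≤ n + c by omega) (I := I)) (hk (n + c))
      have h2 : b (n + c) - b n ∈ (I ^ n • ⊤ : Submodule A M) :=
        SModEq.sub_mem.1 (b.property (by omega)).symm
      have := sub_mem h2 h1
      convert! this using 1
      abel
  · rintro ⟨x, rfl⟩
    rw [AdicCompletion.map_comp_apply, hig.linearMap_comp_eq_zero, AdicCompletion.map_zero]
    rfl

theorem comap_smul_top_le_of_flat [Module.Flat A N] (i : K →ₗ[A] M) (g : M →ₗ[A] N)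
    (hi : Injective i) (hg : Surjective g) (hig : Exact i g) (J : Ideal A) :
    (J • ⊤ : Submodule A M).comap i ≤ (J • ⊤ : Submodule A K) := by
  intro k hk
  have hinj := LinearMap.lTensor_injective_of_exact_of_flat g hg i hi hig (A ⧸ J)
  rw [← Submodule.Quotient.mk_eq_zero, ← LinearEquiv.map_eq_zero_iff
    (TensorProduct.quotTensorEquivQuotSMul K J).symm,
    TensorProduct.quotTensorEquivQuotSMul_symm_mk]
  apply hinj
  rw [LinearMap.lTensor_tmul, map_zero, ← LinearEquiv.map_eq_zero_iff
    (TensorProduct.quotTensorEquivQuotSMul M J), ← map_one (Ideal.Quotient.mk J),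
    TensorProduct.quotTensorEquivQuotSMul_mk_tmul, one_smul, Submodule.Quotient.mk_eq_zero]
  exact hk

theorem shortExact_of_flat [Module.Flat A N] (i : K →ₗ[A] M) (g : M →ₗ[A] N) (hi : Injective i)
    (hg : Surjective g) (hig : Exact i g) :
    Injective (AdicCompletion.map I i) ∧ Exact (AdicCompletion.map I i) (AdicCompletion.map I g) ∧
      Surjective (AdicCompletion.map I g) :=
  have h : ∀ n, (I ^ (n + 0) • ⊤ : Submodule A M).comap i ≤ (I ^ n • ⊤ : Submodule A K) :=
    fun _ => comap_smul_top_le_of_flat i g hi hg hig _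
  ⟨map_injective_of_bound i 0 h, map_exact_of_bound i g hg hig 0 h,
    AdicCompletion.map_surjective I hg⟩

theorem comap_smul_top_le_of_killed (i : K →ₗ[A] M) (g : M →ₗ[A] N) (hi : Injective i)
    (hig : Exact i g) (c : ℕ) (hc : ∀ x ∈ I ^ c, ∀ q : N, x • q = 0) (n : ℕ) :
    (I ^ (n + c) • ⊤ : Submodule A M).comap i ≤ (I ^ n • ⊤ : Submodule A K) := by
  have h1 : (I ^ c • ⊤ : Submodule A M) ≤ LinearMap.range i := by
    rw [Submodule.smul_le]
    intro x hx m _
    exact (hig _).1 (by rw [map_smul, hc x hx])
  have h2 : (I ^ (n + c) • ⊤ : Submodule A M) ≤ (I ^ n • ⊤ : Submodule A K).map i := by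
    rw [Submodule.map_smul'', Submodule.map_top, pow_add, Submodule.mul_smul]
    exact Submodule.smul_mono le_rfl h1
  intro k hk
  obtain ⟨k', hk', he⟩ := h2 hk
  rwa [← hi he]

theorem bijective_of_killed (c : ℕ) (hc : ∀ x ∈ I ^ c, ∀ q : N, x • q = 0) :
    Bijective (AdicCompletion.of I N) := by
  have hb : ∀ n, c ≤ n → (I ^ n • ⊤ : Submodule A N) = ⊥ := fun n hn => by
    rw [eq_bot_iff, Submodule.smul_le]
    exact fun x hx m _ => (Submodule.mem_bot A).2 (hc x (Ideal.pow_le_pow_right hn hx) m)
  rw [AdicCompletion.of_bijective_iff]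
  refine { haus' := fun x hx => ?_, prec' := fun f hf => ⟨f c, fun n => ?_⟩ }
  · have := SModEq.zero.1 (hx c)
    rwa [hb c le_rfl, Submodule.mem_bot] at this
  · rcases le_total n c with h | h
    · exact hf h
    · have := SModEq.sub_mem.1 (hf h)
      rw [hb c le_rfl, Submodule.mem_bot, sub_eq_zero] at this
      rw [this]

theorem range_map_subtype [IsNoetherianRing A] [Module.Finite A M] (J : Ideal A) :
    LinearMap.range (AdicCompletion.map I (J • (⊤ : Submodule A M)).subtype) =
      (J.map (algebraMap A (AdicCompletion I A))) •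
        (⊤ : Submodule (AdicCompletion I A) (AdicCompletion I M)) := by
  classical
  obtain ⟨r, a, ha⟩ := Submodule.fg_iff_exists_fin_generating_family.1 J.fg_of_isNoetherianRing
  have hmem : ∀ j, a j ∈ J := fun j => ha ▸ Submodule.subset_span ⟨j, rfl⟩
  let T : Fin r → (M →ₗ[A] (J • ⊤ : Submodule A M)) := fun j =>
    (a j • LinearMap.id : M →ₗ[A] M).codRestrict _ fun m =>
      Submodule.smul_mem_smul (hmem j) Submodule.mem_top
  let P : (Fin r → M) →ₗ[A] (J • ⊤ : Submodule A M) := ∑ j, T j ∘ₗ LinearMap.proj j
  have hP : Surjective P := by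
    rintro ⟨x, hx⟩
    suffices ∃ m : Fin r → M, ∑ j, a j • m j = x by
      obtain ⟨m, hm⟩ := this
      exact ⟨m, Subtype.ext (by simp [P, T, hm])⟩
    refine Submodule.smul_induction_on hx ?_ ?_
    · intro b hb q _
      rw [← ha] at hb
      obtain ⟨c, rfl⟩ := (Submodule.mem_span_range_iff_exists_fun A).1 hb
      exact ⟨fun j => c j • q, by
        rw [Finset.sum_smul]
        exact Finset.sum_congr rfl fun j _ => by rw [smul_smul, smul_eq_mul, mul_comm]⟩
    · rintro p q ⟨y, rfl⟩ ⟨y', rfl⟩
      exact ⟨y + y', by simp [Finset.sum_add_distrib, smul_add]⟩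
  have hT : ∀ j x, AdicCompletion.map I (J • (⊤ : Submodule A M)).subtype (AdicCompletion.map I (T j) x) =
      algebraMap A (AdicCompletion I A) (a j) • x := by
    intro j x
    rw [AdicCompletion.map_comp_apply, algebraMap_smul]
    obtain ⟨b, rfl⟩ := AdicCompletion.mk_surjective I M x
    refine AdicCompletion.ext fun n => ?_
    simp [T]
    rfl
  refine le_antisymm ?_ (Submodule.smul_le.2 ?_)
  · rintro _ ⟨y, rfl⟩
    obtain ⟨z, rfl⟩ := AdicCompletion.map_surjective I hP y
    have hz : AdicCompletion.map I P z =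
        ∑ j, AdicCompletion.map I (T j) (AdicCompletion.map I (LinearMap.proj j) z) := by
      obtain ⟨b, rfl⟩ := AdicCompletion.mk_surjective I _ z
      refine AdicCompletion.ext fun n => ?_
      simp [P, AdicCompletion.val_sum_apply]
    rw [hz, map_sum]
    refine Submodule.sum_mem _ fun j _ => ?_
    rw [hT]
    exact Submodule.smul_mem_smul (Ideal.mem_map_of_mem _ (hmem j)) trivial
  · intro b hb x _
    induction hb using Submodule.span_induction generalizing x with
    | mem b hb =>
      obtain ⟨c, hc, rfl⟩ := hb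
      rw [← ha] at hc
      obtain ⟨e, rfl⟩ := (Submodule.mem_span_range_iff_exists_fun A).1 hc
      rw [map_sum, Finset.sum_smul]
      refine Submodule.sum_mem _ fun j _ => ⟨AdicCompletion.map I (T j)
        (algebraMap A (AdicCompletion I A) (e j) • x), ?_⟩
      rw [hT, smul_eq_mul, map_mul, mul_comm, mul_smul]
    | zero => simp
    | add b c _ _ hb hc => rw [add_smul]; exact add_mem (hb x trivial) (hc x trivial)
    | smul e b _ hb =>
      rw [smul_eq_mul, mul_smul]
      exact Submodule.smul_mem _ e (hb x trivial)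

theorem eq_bot_of_forall_smul_top [Module.Finite A N]
    (h : ∀ (m : Ideal A) [m.IsMaximal], (m • ⊤ : Submodule A N) = ⊤) : (⊤ : Submodule A N) = ⊥ := by
  have hann : (⊤ : Submodule A N).annihilator = ⊤ := by
    by_contra hne
    obtain ⟨m, hm, hle⟩ := Ideal.exists_le_maximal _ hne
    obtain ⟨r, hr1, hr2⟩ := Submodule.exists_sub_one_mem_and_smul_eq_zero_of_fg_of_le_smul m
      (⊤ : Submodule A N) Module.Finite.fg_top (h m).ge
    have hrm : r ∈ m := hle (Submodule.mem_annihilator.2 fun x hx => hr2 x hx)
    exact hm.ne_top ((Ideal.eq_top_iff_one m).2 (by simpa using sub_mem hrm hr1))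
  exact Submodule.annihilator_eq_top_iff.1 hann

theorem subsingleton_of_forall_completion [Module.Finite A N]
    (h : ∀ (m : Ideal A) [m.IsMaximal], Subsingleton (AdicCompletion m N)) : Subsingleton N := by
  refine subsingleton_of_forall_eq 0 fun x => ?_
  have h0 := eq_bot_of_forall_smul_top (N := N) fun m _ => by
    rw [eq_top_iff]
    intro z _
    have := h m
    have h1 : AdicCompletion.of m N z = 0 := Subsingleton.elim _ _
    have h2 := congrArg (fun w => w.val 1) h1
    simpa using h2
  have : x ∈ (⊥ : Submodule A N) := h0 ▸ trivial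
  simpa using this

theorem subsingleton_completion_of_injective (I : Ideal A) {P : Type u} [AddCommGroup P] [Module A P]
    (j : K →ₗ[A] N) (q : N →ₗ[A] P) (hjq : q ∘ₗ j = 0)
    (hj : Injective (AdicCompletion.map I j)) (hq : Injective (AdicCompletion.map I q)) :
    Subsingleton (AdicCompletion I K) := by
  refine subsingleton_of_forall_eq 0 fun x => hj (hq ?_)
  rw [AdicCompletion.map_comp_apply, hjq, AdicCompletion.map_zero]
  simp

theorem subsingleton_completion_of_surjective (I : Ideal A) {P : Type u} [AddCommGroup P]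
    [Module A P] (q : K →ₗ[A] N) (p : N →ₗ[A] P) (hpq : p ∘ₗ q = 0)
    (hp : Surjective p) (hq : Surjective (AdicCompletion.map I q)) :
    Subsingleton (AdicCompletion I P) := by
  refine subsingleton_of_forall_eq 0 fun x => ?_
  obtain ⟨y, rfl⟩ := AdicCompletion.map_surjective I hp x
  obtain ⟨z, rfl⟩ := hq y
  rw [AdicCompletion.map_comp_apply, hpq, AdicCompletion.map_zero]
  rfl

theorem shortExact_iff_forall_completion [IsNoetherianRing A] [Module.Finite A K]
    [Module.Finite A M] [Module.Finite A N] (f : K →ₗ[A] M) (g : M →ₗ[A] N) :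
    (Injective f ∧ Exact f g ∧ Surjective g) ↔
      ∀ (m : Ideal A) [m.IsMaximal],
        Injective (AdicCompletion.map m f) ∧
          Exact (AdicCompletion.map m f) (AdicCompletion.map m g) ∧
          Surjective (AdicCompletion.map m g) := by
  refine ⟨fun ⟨hf, hfg, hg⟩ m _ => ⟨AdicCompletion.map_injective m hf,
    AdicCompletion.map_exact hf hfg hg, AdicCompletion.map_surjective m hg⟩, fun h => ?_⟩
  have hinj : Injective f := by
    have hs : Subsingleton (LinearMap.ker f) := subsingleton_of_forall_completion fun m _ =>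
      subsingleton_completion_of_injective m (LinearMap.ker f).subtype f
        (LinearMap.comp_ker_subtype f) (AdicCompletion.map_injective m Subtype.val_injective) (h m).1
    rw [← LinearMap.ker_eq_bot]
    exact Submodule.eq_bot_of_subsingleton
  have hsurj : Surjective g := by
    have hs : Subsingleton (N ⧸ LinearMap.range g) := subsingleton_of_forall_completion fun m _ =>
      subsingleton_completion_of_surjective m g (LinearMap.range g).mkQ
        (LinearMap.range_mkQ_comp g) (Submodule.mkQ_surjective _) (h m).2.2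
    rw [← LinearMap.range_eq_top]
    exact Submodule.Quotient.subsingleton_iff.1 hs
  have hcomp : g ∘ₗ f = 0 := by
    have hs : Subsingleton (LinearMap.range (g ∘ₗ f)) := subsingleton_of_forall_completion fun m _ => by
      refine subsingleton_of_forall_eq 0 fun x => ?_
      obtain ⟨y, rfl⟩ := AdicCompletion.map_surjective m (g ∘ₗ f).surjective_rangeRestrict x
      apply AdicCompletion.map_injective m (f := (LinearMap.range (g ∘ₗ f)).subtype) Subtype.val_injective
      rw [AdicCompletion.map_comp_apply, LinearMap.subtype_comp_codRestrict, map_zero,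
        ← AdicCompletion.map_comp_apply]
      exact (h m).2.1.apply_apply_eq_zero y
    rw [← LinearMap.range_eq_bot]
    exact Submodule.eq_bot_of_subsingleton
  refine ⟨hinj, ?_, hsurj⟩
  rw [LinearMap.exact_iff]
  have hle : LinearMap.range f ≤ LinearMap.ker g := LinearMap.range_le_ker_iff.2 hcomp
  refine le_antisymm ?_ hle
  let f' : K →ₗ[A] LinearMap.ker g := f.codRestrict _ fun x => hle ⟨x, rfl⟩
  have hs : Subsingleton ((LinearMap.ker g) ⧸ LinearMap.range f') :=
    subsingleton_of_forall_completion fun m _ =>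
      subsingleton_completion_of_surjective m f' (LinearMap.range f').mkQ
        (LinearMap.range_mkQ_comp f') (Submodule.mkQ_surjective _) (by
          intro y
          obtain ⟨x, hx⟩ := ((h m).2.1 (AdicCompletion.map m (LinearMap.ker g).subtype y)).1 (by
            rw [AdicCompletion.map_comp_apply, LinearMap.comp_ker_subtype, AdicCompletion.map_zero]
            rfl)
          refine ⟨x, AdicCompletion.map_injective m
            (f := (LinearMap.ker g).subtype) Subtype.val_injective ?_⟩
          rw [AdicCompletion.map_comp_apply]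
          exact hx)
  intro y hy
  obtain ⟨x, hx⟩ : (⟨y, hy⟩ : LinearMap.ker g) ∈ LinearMap.range f' :=
    (Submodule.Quotient.subsingleton_iff.1 hs).symm ▸ trivial
  exact ⟨x, congrArg Subtype.val hx⟩

end GrothLib.AdicExtra
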