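import Groth.Agent.Lib.AdicExtra.Exact
import Mathlib.RingTheory.OrzechProperty
import Mathlib.RingTheory.AdicCompletion.Noetherian
import Mathlib.RingTheory.FiniteType

/-! Completions of finite modules. -/

namespace GrothLib.AdicExtra

universe u

open Function

variable {A : Type u} [CommRing A] {I : Ideal A}
variable {M N : Type u} [AddCommGroup M] [Module A M] [AddCommGroup N] [Module A N]

theorem span_range_of_eq_top [Module.Finite A M] :
    Submodule.span (AdicCompletion I A) (Set.range (AdicCompletion.of I M)) = ⊤ := by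
  rw [eq_top_iff]
  intro y _
  obtain ⟨t, rfl⟩ := AdicCompletion.ofTensorProduct_surjective_of_finite I (M := M) y
  induction t using TensorProduct.induction_on with
  | zero => simp
  | tmul r x =>
    rw [AdicCompletion.ofTensorProduct_tmul]
    exact Submodule.smul_mem _ r (Submodule.subset_span ⟨x, rfl⟩)
  | add a b ha hb => rw [map_add]; exact add_mem (ha trivial) (hb trivial)

theorem finite_completion [Module.Finite A M] :
    Module.Finite (AdicCompletion I A) (AdicCompletion I M) := by
  classical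
  obtain ⟨s, hs⟩ := (inferInstance : Module.Finite A M).fg_top
  refine ⟨⟨s.image (AdicCompletion.of I M), eq_top_iff.2 ?_⟩⟩
  rw [← span_range_of_eq_top, Submodule.span_le]
  rintro _ ⟨x, rfl⟩
  rw [Finset.coe_image]
  have hx : x ∈ Submodule.span A (s : Set M) := hs ▸ trivial
  have h1 : AdicCompletion.of I M x ∈
      Submodule.span A (AdicCompletion.of I M '' (s : Set M)) := by
    rw [Submodule.span_image]; exact ⟨x, hx, rfl⟩
  exact Submodule.span_le_restrictScalars A (AdicCompletion I A) _ h1

theorem map_surjective_of_mod [Module.Finite A N] (φ : M →ₗ[A] N)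
    (h : (⊤ : Submodule A N) ≤ LinearMap.range φ ⊔ I • ⊤) :
    Surjective (AdicCompletion.map I φ) := by
  have hq : (⊤ : Submodule A (N ⧸ LinearMap.range φ)) ≤ I • ⊤ := by
    rw [← (LinearMap.range φ).range_mkQ, LinearMap.range_eq_map (LinearMap.range φ).mkQ,
      ← Submodule.map_smul'']
    refine (Submodule.map_mono h).trans ?_
    rw [Submodule.map_sup, Submodule.mkQ_map_self, bot_sup_eq]
  obtain ⟨r, hr, hr'⟩ :=
    Submodule.exists_sub_one_mem_and_smul_eq_zero_of_fg_of_le_smul I _ Module.Finite.fg_top hq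
  have hu : IsUnit (algebraMap A (AdicCompletion I A) r) := by
    refine isUnit_of_isUnit_evalOne _ ?_
    rw [AlgHom.commutes, show algebraMap A (A ⧸ I) r = 1 from (Ideal.Quotient.eq.2 hr)]
    exact isUnit_one
  rw [← LinearMap.range_eq_top, eq_top_iff, ← span_range_of_eq_top, Submodule.span_le]
  rintro _ ⟨y, rfl⟩
  have hy : r • y ∈ LinearMap.range φ := by
    rw [← Submodule.Quotient.mk_eq_zero]
    exact hr' (Submodule.Quotient.mk y) trivial
  obtain ⟨x, hx⟩ := hy
  rw [SetLike.mem_coe, ← Submodule.smul_mem_iff_of_isUnit _ hu, algebraMap_smul, ← map_smul, ← hx]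
  exact ⟨AdicCompletion.of I M x, rfl⟩

/-- For some `c`, an isomorphism modulo `I ^ (c + 1)` gives a map surjective modulo `I`. -/
theorem exists_lift_mod [IsNoetherianRing A] [Module.Finite A M] [Module.Finite A N] :
    ∃ c : ℕ, ∀ n, c + 1 ≤ n →
      ∀ e : (M ⧸ (I ^ n • ⊤ : Submodule A M)) →ₗ[A] (N ⧸ (I ^ n • ⊤ : Submodule A N)),
        Surjective e → ∃ φ : M →ₗ[A] N, (⊤ : Submodule A N) ≤ LinearMap.range φ ⊔ I • ⊤ := by
  classical
  obtain ⟨s, π, hπ⟩ := Module.Finite.exists_fin' A M
  obtain ⟨t, ρ', hρ'⟩ := Module.Finite.exists_fin' A (LinearMap.ker π)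
  let ρ : (Fin t → A) →ₗ[A] (Fin s → A) := (LinearMap.ker π).subtype ∘ₗ ρ'
  let L : ((Fin s → A) →ₗ[A] N) →ₗ[A] ((Fin t → A) →ₗ[A] N) := LinearMap.lcomp A N ρ
  obtain ⟨c, hc⟩ := Ideal.exists_pow_inf_eq_pow_smul I (LinearMap.range L)
  refine ⟨c, fun n hn e he => ?_⟩
  choose v hv using fun j =>
    Submodule.mkQ_surjective _ (e (Submodule.Quotient.mk (π (Pi.single j 1))))
  let h : (Fin s → A) →ₗ[A] N := (Pi.basisFun A (Fin s)).constr A v
  have hh : (I ^ n • ⊤ : Submodule A N).mkQ ∘ₗ h = e ∘ₗ (I ^ n • ⊤ : Submodule A M).mkQ ∘ₗ π := by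
    refine (Pi.basisFun A (Fin s)).ext fun j => ?_
    simp only [LinearMap.comp_apply, h, Module.Basis.constr_basis]
    rw [Pi.basisFun_apply, hv]
    rfl
  have hLh : L h ∈ (I ^ (c + 1) • ⊤ : Submodule A ((Fin t → A) →ₗ[A] N)) := by
    have hval : ∀ i, L h (Pi.single i 1) ∈ (I ^ (c + 1) • ⊤ : Submodule A N) := fun i => by
      refine Submodule.smul_mono_left (Ideal.pow_le_pow_right hn) ?_
      rw [← Submodule.Quotient.mk_eq_zero]
      have := LinearMap.congr_fun hh (ρ (Pi.single i 1))
      simp only [LinearMap.comp_apply, Submodule.mkQ_apply] at this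
      show Submodule.Quotient.mk (h (ρ (Pi.single i 1))) = 0
      rw [this, show π (ρ (Pi.single i 1)) = 0 from (ρ' (Pi.single i 1)).2,
        Submodule.Quotient.mk_zero, map_zero]
    have hsum : L h = ∑ i, (LinearMap.proj i : (Fin t → A) →ₗ[A] A).smulRight (L h (Pi.single i 1)) := by
      refine (Pi.basisFun A (Fin t)).ext fun j => ?_
      simp [Pi.basisFun_apply, Pi.single_apply]
    rw [hsum]
    refine Submodule.sum_mem _ fun i _ => ?_
    refine Submodule.smul_induction_on (hval i) (fun a ha x _ => ?_) fun x y hx hy => ?_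
    · have : (LinearMap.proj i : (Fin t → A) →ₗ[A] A).smulRight (a • x) =
          a • (LinearMap.proj i : (Fin t → A) →ₗ[A] A).smulRight x := by
        ext z; simp [smul_comm a]
      rw [this]; exact Submodule.smul_mem_smul ha Submodule.mem_top
    · have : (LinearMap.proj i : (Fin t → A) →ₗ[A] A).smulRight (x + y) =
          (LinearMap.proj i : (Fin t → A) →ₗ[A] A).smulRight x +
          (LinearMap.proj i : (Fin t → A) →ₗ[A] A).smulRight y := by
        ext z; simp
      rw [this]; exact add_mem hx hy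
  obtain ⟨h₀, hh₀, hh₀'⟩ : L h ∈ (I • ⊤ : Submodule A ((Fin s → A) →ₗ[A] N)).map L := by
    have h2 : L h ∈ (I ^ (c + 1) • ⊤ : Submodule A _) ⊓ LinearMap.range L := ⟨hLh, h, rfl⟩
    rw [hc (c + 1) (by omega), show c + 1 - c = 1 by omega, pow_one] at h2
    rw [Submodule.map_smul'', Submodule.map_top]
    exact Submodule.smul_mono le_rfl inf_le_right h2
  have hker : LinearMap.ker π ≤ LinearMap.ker (h - h₀) := by
    intro x hx
    obtain ⟨y, hy⟩ := hρ' ⟨x, hx⟩
    have : ρ y = x := congrArg Subtype.val hy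
    rw [← this, LinearMap.mem_ker, LinearMap.sub_apply, sub_eq_zero]
    exact (LinearMap.congr_fun hh₀' y).symm
  let φ : M →ₗ[A] N := (LinearMap.ker π).liftQ (h - h₀) hker ∘ₗ
    (π.quotKerEquivOfSurjective hπ).symm.toLinearMap
  refine ⟨φ, fun y _ => ?_⟩
  obtain ⟨z, hz⟩ := he (Submodule.Quotient.mk y)
  obtain ⟨m, rfl⟩ := Submodule.mkQ_surjective _ z
  obtain ⟨w, rfl⟩ := hπ m
  have hφ : φ (π w) = h w - h₀ w := by
    show (LinearMap.ker π).liftQ (h - h₀) hker ((π.quotKerEquivOfSurjective hπ).symm (π w)) = _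
    rw [show (π.quotKerEquivOfSurjective hπ).symm (π w) = Submodule.Quotient.mk w by
      rw [LinearEquiv.symm_apply_eq]; rfl]
    rfl
  have h1 : y - h w ∈ (I • ⊤ : Submodule A N) := by
    refine Submodule.smul_mono_left (Ideal.pow_le_self (I := I) (show n ≠ 0 by omega)) ?_
    rw [← Submodule.Quotient.eq, ← hz]
    exact (LinearMap.congr_fun hh w).symm
  have h2 : h₀ w ∈ (I • ⊤ : Submodule A N) :=
    Submodule.smul_top_le_comap_smul_top I (LinearMap.applyₗ w) hh₀
  have : y = φ (π w) + (y - h w + h₀ w) := by rw [hφ]; abel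
  rw [this]
  exact Submodule.add_mem_sup ⟨_, rfl⟩ (add_mem h1 h2)

theorem nonempty_equiv_of_quotients [IsNoetherianRing A] [Module.Finite A M] [Module.Finite A N]
    (h : ∀ n : ℕ, Nonempty ((M ⧸ (I ^ n • ⊤ : Submodule A M)) ≃ₗ[A] (N ⧸ (I ^ n • ⊤ : Submodule A N)))) :
    Nonempty (AdicCompletion I M ≃ₗ[AdicCompletion I A] AdicCompletion I N) := by
  obtain ⟨c, hc⟩ := exists_lift_mod (I := I) (M := M) (N := N)
  obtain ⟨c', hc'⟩ := exists_lift_mod (I := I) (M := N) (N := M)
  obtain ⟨e⟩ := h (c + c' + 1)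
  obtain ⟨φ, hφ⟩ := hc _ (by omega) e.toLinearMap e.surjective
  obtain ⟨ψ, hψ⟩ := hc' _ (by omega) e.symm.toLinearMap e.symm.surjective
  have h1 := map_surjective_of_mod φ hφ
  have h2 := map_surjective_of_mod ψ hψ
  have := finite_completion (I := I) (M := M)
  have h3 : Injective ((AdicCompletion.map I ψ) ∘ₗ (AdicCompletion.map I φ)) :=
    OrzechProperty.injective_of_surjective_endomorphism _ (h2.comp h1)
  exact ⟨LinearEquiv.ofBijective (AdicCompletion.map I φ) ⟨Injective.of_comp (f := AdicCompletion.map I ψ) h3, h1⟩⟩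

open IsLocalRing in
theorem eq_range_map_of_dense {R : Type u} [CommRing R] [IsNoetherianRing R] [IsLocalRing R]
    {M : Type u} [AddCommGroup M] [Module R M] [Module.Finite R M] (N : Submodule R M)
    (N' : Submodule (AdicCompletion (maximalIdeal R) R) (AdicCompletion (maximalIdeal R) M))
    (hle : ∀ x ∈ N, AdicCompletion.of (maximalIdeal R) M x ∈ N')
    (hdense : ∀ y ∈ N', ∀ k : ℕ, ∃ x ∈ N,
      AdicCompletion.eval (maximalIdeal R) M k y = Submodule.Quotient.mk x) :
    N' = LinearMap.range (AdicCompletion.map (maximalIdeal R) N.subtype) ∧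
      ∀ x : M, x ∈ N ↔ AdicCompletion.of (maximalIdeal R) M x ∈ N' := by
  revert N' hle hdense
  set m := maximalIdeal R
  intro N' hle hdense
  set B := AdicCompletion m R
  set P := LinearMap.range (AdicCompletion.map m N.subtype)
  have := finite_completion (I := m) (M := M)
  have heq : N' = P := by
    apply le_antisymm
    · intro y hy
      rw [← Submodule.Quotient.mk_eq_zero]
      refine IsHausdorff.haus (inferInstance : IsHausdorff (maximalIdeal B)
        ((AdicCompletion m M) ⧸ P)) _ fun k => ?_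
      rw [SModEq.zero]
      obtain ⟨x, hx, hxy⟩ := hdense y hy k
      have h1 : y - AdicCompletion.of m M x ∈ (m ^ k • ⊤ : Submodule R (AdicCompletion m M)) := by
        rw [AdicCompletion.pow_smul_top_eq_ker_eval m.fg_of_isNoetherianRing, LinearMap.mem_ker,
          map_sub, hxy, AdicCompletion.eval_of, Submodule.mkQ_apply, sub_self]
      have h2 : y - AdicCompletion.of m M x ∈
          ((maximalIdeal B) ^ k • ⊤ : Submodule B (AdicCompletion m M)) := by
        refine Submodule.smul_induction_on h1 (fun a ha z _ => ?_) fun _ _ => add_mem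
        rw [← algebraMap_smul B a z]
        refine Submodule.smul_mem_smul ?_ Submodule.mem_top
        rw [AdicCompletion.maximalIdeal_eq_map, ← Ideal.map_pow]
        exact Ideal.mem_map_of_mem _ ha
      have h3 := Submodule.smul_top_le_comap_smul_top _ P.mkQ h2
      rw [Submodule.mem_comap, map_sub, P.mkQ_apply (AdicCompletion.of m M x),
        (Submodule.Quotient.mk_eq_zero P).2 (show AdicCompletion.of m M x ∈ P from
          ⟨AdicCompletion.of m N ⟨x, hx⟩, AdicCompletion.map_of m N.subtype ⟨x, hx⟩⟩), sub_zero] at h3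
      exact h3
    · rintro _ ⟨z, rfl⟩
      have hz : z ∈ Submodule.span B (Set.range (AdicCompletion.of m N)) :=
        span_range_of_eq_top (I := m) (M := N) ▸ trivial
      induction hz using Submodule.span_induction with
      | mem z hz =>
        obtain ⟨⟨x, hx⟩, rfl⟩ := hz
        rw [AdicCompletion.map_of]
        exact hle x hx
      | zero => simp
      | add a b _ _ ha hb => rw [map_add]; exact add_mem ha hb
      | smul r a _ ha => rw [map_smul]; exact Submodule.smul_mem _ r ha
  refine ⟨heq, fun x => ⟨hle x, fun hx => ?_⟩⟩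
  rw [← Submodule.Quotient.mk_eq_zero]
  refine IsHausdorff.haus (inferInstance : IsHausdorff m (M ⧸ N)) _ fun k => ?_
  rw [SModEq.zero]
  obtain ⟨x', hx', hxy⟩ := hdense _ hx k
  rw [AdicCompletion.eval_of, Submodule.mkQ_apply, Submodule.Quotient.eq] at hxy
  have h3 := Submodule.smul_top_le_comap_smul_top _ N.mkQ hxy
  rwa [Submodule.mem_comap, map_sub, N.mkQ_apply x', (Submodule.Quotient.mk_eq_zero N).2 hx',
    sub_zero] at h3

end GrothLib.AdicExtra
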