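import Groth.Agent.Lib.AdicExtra.Complete
import Groth.Agent.Lib.AdicExtra.Exact
import Mathlib.RingTheory.AdicCompletion.Functoriality
import Mathlib.RingTheory.AdicCompletion.Noetherian
import Mathlib.RingTheory.AdicCompletion.Completeness

/-!
# Completeness along `J` from completeness along `I` and of `A / I` along `J`
-/

universe u

open Function

namespace GrothLib.AdicExtra

theorem isAdicComplete_of_quotient (A : Type u) [CommRing A] [IsNoetherianRing A] (I J : Ideal A)
    [IsAdicComplete I A] [hJ : IsAdicComplete (J.map (Ideal.Quotient.mk I)) (A ⧸ I)] :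
    IsAdicComplete J A := by
  set K := I ⊔ J with hKdef
  have hmapK : K.map (algebraMap A (A ⧸ I)) = J.map (Ideal.Quotient.mk I) := by
    rw [hKdef, Ideal.Quotient.algebraMap_eq, Ideal.map_sup, Ideal.map_quotient_self, bot_sup_eq]
  have hQ : IsAdicComplete K (A ⧸ I) := by
    rw [← IsAdicComplete.map_algebraMap_iff (S := A ⧸ I), hmapK]; exact hJ
  have hKjac : K ≤ (⊥ : Ideal A).jacobson := by
    intro x hx
    rw [Ideal.mem_jacobson_bot]
    intro y
    have h1 : Ideal.Quotient.mk I x ∈ (⊥ : Ideal (A ⧸ I)).jacobson :=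
      IsAdicComplete.le_jacobson_bot (J.map (Ideal.Quotient.mk I))
        (hmapK ▸ Ideal.mem_map_of_mem (algebraMap A (A ⧸ I)) hx)
    have h2 : IsUnit (Ideal.Quotient.mk I (x * y + 1)) := by
      rw [map_add, map_mul, map_one]
      exact Ideal.mem_jacobson_bot.1 h1 _
    obtain ⟨z, hz⟩ := h2.exists_right_inv
    obtain ⟨z, rfl⟩ := Ideal.Quotient.mk_surjective z
    rw [← map_mul, ← map_one (Ideal.Quotient.mk I), Ideal.Quotient.eq] at hz
    have h3 := Ideal.mem_jacobson_bot.1 (IsAdicComplete.le_jacobson_bot I hz) 1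
    rw [mul_one, sub_add_cancel] at h3
    exact isUnit_of_mul_isUnit_left h3
  set B := AdicCompletion K A
  set f : A →+* B := algebraMap A B with hf
  have hfg : K.FG := IsNoetherian.noetherian _
  have : IsAdicComplete K B := AdicCompletion.isAdicComplete hfg
  have hHB : IsHausdorff I B := isHausdorff_of_le (J := K) fun n =>
    ⟨n, Ideal.pow_right_mono le_sup_left n⟩
  have hH : IsHausdorff (I.map f) B := IsHausdorff.map_algebraMap_iff.mpr hHB
  let q : A →ₗ[A] A ⧸ I := (Ideal.Quotient.mkₐ A I).toLinearMap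
  have hsurjmod : Surjective ((Ideal.Quotient.mk (I.map f)).comp f) := by
    intro z
    obtain ⟨y, rfl⟩ := Ideal.Quotient.mk_surjective z
    obtain ⟨t, ht⟩ := (AdicCompletion.of_bijective K (A ⧸ I)).2 (AdicCompletion.map K q y)
    obtain ⟨l, rfl⟩ := Ideal.Quotient.mk_surjective t
    refine ⟨l, ?_⟩
    have hex : Exact (I • (⊤ : Submodule A A)).subtype q := fun a => by
      simp [q, Ideal.Quotient.eq_zero_iff_mem]
    obtain ⟨w, hw⟩ := (AdicCompletion.map_exact (Submodule.injective_subtype _) hex
      Ideal.Quotient.mk_surjective (y - AdicCompletion.of K A l)).1 (by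
        rw [map_sub, AdicCompletion.map_of]
        exact sub_eq_zero.2 ht.symm)
    have hmem : y - AdicCompletion.of K A l ∈
        (I.map (algebraMap A B)) • (⊤ : Submodule B B) := by
      exact (range_map_subtype (A := A) (M := A) (I := K) I).le ⟨w, hw⟩
    rw [smul_eq_mul, Ideal.mul_top] at hmem
    rw [RingHom.comp_apply, eq_comm, Ideal.Quotient.eq]
    exact hmem
  have hsurj : Surjective f := surjective_of_mk_map_comp_surjective (I := I) f hsurjmod
  have hHA : IsHausdorff K A := IsHausdorff.of_le_jacobson _ _ hKjac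
  have : IsAdicComplete K A := by
    refine AdicCompletion.of_bijective_iff.1 ⟨AdicCompletion.of_injective K A, ?_⟩
    intro y
    obtain ⟨a, ha⟩ := hsurj y
    exact ⟨a, ha⟩
  exact isAdicComplete_of_le (J := K) le_sup_right (IsNoetherian.noetherian _)

end GrothLib.AdicExtra
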