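import Groth.Agent.Lib.AdicExtra.Exact
import Mathlib.RingTheory.Filtration
import Mathlib.RingTheory.AdicCompletion.Completeness
import Mathlib.RingTheory.Flat.Basic
import Mathlib.LinearAlgebra.Pi

/-! # Adic completion of the tensor product of a finite module with a flat module -/

set_option autoImplicit false

namespace GrothLib.AdicExtra

universe u

open Function TensorProduct

variable {A : Type u} [CommRing A] (I : Ideal A)
variable {F : Type u} [AddCommGroup F] [Module A F]
variable (N : Type u) [AddCommGroup N] [Module A N]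

lemma range_rTensor_smul_top (J : Ideal A) :
    LinearMap.range ((J • ⊤ : Submodule A F).subtype.rTensor N) = (J • ⊤ : Submodule A (F ⊗[A] N)) := by
  apply le_antisymm
  · rintro _ ⟨z, rfl⟩
    induction z using TensorProduct.induction_on with
    | zero => simp
    | tmul x y =>
      have key : ∀ x : F, x ∈ (J • ⊤ : Submodule A F) → x ⊗ₜ[A] y ∈ (J • ⊤ : Submodule A (F ⊗[A] N)) :=
        fun x hx => Submodule.smul_induction_on hx
          (fun a ha m _ => by
            rw [← TensorProduct.smul_tmul']
            exact Submodule.smul_mem_smul ha trivial)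
          (fun a b ha hb => by
            rw [TensorProduct.add_tmul]
            exact add_mem ha hb)
      exact key x.1 x.2
    | add a b ha hb =>
      rw [map_add]
      exact add_mem ha hb
  · refine Submodule.smul_le.2 fun a ha z _ => ?_
    induction z using TensorProduct.induction_on with
    | zero => simp
    | tmul x y =>
      exact ⟨⟨a • x, Submodule.smul_mem_smul ha trivial⟩ ⊗ₜ y, (TensorProduct.smul_tmul' _ _ _).symm⟩
    | add x y hx hy =>
      rw [smul_add]
      exact add_mem (hx trivial) (hy trivial)

/-- Artin–Rees after tensoring with a flat module. -/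
theorem exists_bound_tensor [IsNoetherianRing A] [Module.Finite A F] [Module.Flat A N] (K : Submodule A F) :
    ∃ c : ℕ, ∀ n, (I ^ (n + c) • ⊤ : Submodule A (F ⊗[A] N)).comap (K.subtype.rTensor N) ≤
      (I ^ n • ⊤ : Submodule A (K ⊗[A] N)) := by
  obtain ⟨c, hc⟩ := Ideal.exists_pow_inf_eq_pow_smul I K
  refine ⟨c, fun n z hz => ?_⟩
  let J : Submodule A F := I ^ (n + c) • ⊤
  let φ : K →ₗ[A] F ⧸ J := J.mkQ.comp K.subtype
  have hker : LinearMap.ker φ ≤ (I ^ n • ⊤ : Submodule A K) := by
    intro x hx
    have hxJ : x.1 ∈ J := (Submodule.Quotient.mk_eq_zero J).1 hx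
    have h1 : x.1 ∈ (I ^ n • (I ^ c • ⊤ ⊓ K) : Submodule A F) := by
      have := hc (n + c) (by omega)
      rw [Nat.add_sub_cancel] at this
      rw [← this]
      exact ⟨hxJ, x.2⟩
    have h2 : (I ^ n • (I ^ c • ⊤ ⊓ K) : Submodule A F) ≤ (I ^ n • ⊤ : Submodule A K).map K.subtype := by
      rw [Submodule.map_smul'', Submodule.map_top, Submodule.range_subtype]
      exact Submodule.smul_mono le_rfl inf_le_right
    obtain ⟨x', hx', he⟩ := h2 h1
    rwa [show x = x' from (Subtype.ext he).symm]
  have hzero : φ.rTensor N z = 0 := by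
    obtain ⟨w, hw⟩ : ∃ w, J.subtype.rTensor N w = K.subtype.rTensor N z := by
      have h := (range_rTensor_smul_top N (I ^ (n + c))).ge (Submodule.mem_comap.1 hz)
      exact h
    rw [LinearMap.rTensor_comp_apply, ← hw, ← LinearMap.rTensor_comp_apply,
      show J.mkQ.comp J.subtype = 0 from LinearMap.ext fun x => (Submodule.Quotient.mk_eq_zero J).2 x.2]
    simp
  obtain ⟨w, rfl⟩ := (Module.Flat.rTensor_exact (R := A) N (LinearMap.exact_subtype_ker_map φ) z).1 hzero
  rw [← range_rTensor_smul_top N (I ^ n)]
  refine ⟨(Submodule.inclusion hker).rTensor N w, ?_⟩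
  rw [← LinearMap.rTensor_comp_apply]
  rfl

lemma map_add_apply {M M' : Type u} [AddCommGroup M] [Module A M] [AddCommGroup M'] [Module A M']
    (f g : M →ₗ[A] M') (x : AdicCompletion I M) :
    AdicCompletion.map I (f + g) x = AdicCompletion.map I f x + AdicCompletion.map I g x := by
  refine AdicCompletion.ext fun n => ?_
  obtain ⟨a, rfl⟩ := AdicCompletion.mk_surjective I M x
  simp

lemma map_smul_apply {M M' : Type u} [AddCommGroup M] [Module A M] [AddCommGroup M'] [Module A M']
    (r : A) (f : M →ₗ[A] M') (x : AdicCompletion I M) :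
    AdicCompletion.map I (r • f) x = r • AdicCompletion.map I f x := by
  refine AdicCompletion.ext fun n => ?_
  obtain ⟨a, rfl⟩ := AdicCompletion.mk_surjective I M x
  change _ = r • (AdicCompletion.map I f (AdicCompletion.mk I M a)).val n
  simp

/-- The comparison map. -/
noncomputable def tensorToCompletion (M : Type u) [AddCommGroup M] [Module A M] :
    M ⊗[A] AdicCompletion I N →ₗ[A] AdicCompletion I (M ⊗[A] N) :=
  TensorProduct.lift
    { toFun := fun m => (AdicCompletion.map I (TensorProduct.mk A M N m)).restrictScalars A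
      map_add' := fun m m' => LinearMap.ext fun y => by
        simp [map_add_apply]
      map_smul' := fun r m => LinearMap.ext fun y => by
        simp [map_smul_apply] }

@[simp] lemma tensorToCompletion_tmul {M : Type u} [AddCommGroup M] [Module A M] (m : M) (y : AdicCompletion I N) :
    tensorToCompletion I N M (m ⊗ₜ y) = AdicCompletion.map I (TensorProduct.mk A M N m) y := rfl

lemma tensorToCompletion_natural {M M' : Type u} [AddCommGroup M] [Module A M] [AddCommGroup M'] [Module A M']
    (g : M →ₗ[A] M') (x : M ⊗[A] AdicCompletion I N) :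
    AdicCompletion.map I (g.rTensor N) (tensorToCompletion I N M x) =
      tensorToCompletion I N M' (g.rTensor _ x) := by
  induction x using TensorProduct.induction_on with
  | zero => simp
  | add a b ha hb => simp [ha, hb]
  | tmul m y =>
    rw [LinearMap.rTensor_tmul, tensorToCompletion_tmul, tensorToCompletion_tmul, AdicCompletion.map_comp_apply]
    exact congrArg (fun f => AdicCompletion.map I f y) (LinearMap.ext fun n => by simp)

theorem tensorToCompletion_free_bijective (r : ℕ) :
    Bijective (tensorToCompletion I N (Fin r → A)) := by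
  let pr : Fin r → ((Fin r → A) ⊗[A] N →ₗ[A] N) := fun j =>
    (TensorProduct.lid A N).toLinearMap ∘ₗ (LinearMap.proj j).rTensor N
  let e : Fin r → (Fin r → A) := fun j => Pi.single j 1
  let inv : AdicCompletion I ((Fin r → A) ⊗[A] N) → (Fin r → A) ⊗[A] AdicCompletion I N :=
    fun y => ∑ j, e j ⊗ₜ AdicCompletion.map I (pr j) y
  have hpr : ∀ (j : Fin r) (v : Fin r → A),
      (pr j).comp (TensorProduct.mk A (Fin r → A) N v) = v j • LinearMap.id := fun j v => LinearMap.ext fun n => by
    simp [pr]
  have hsum : ∀ v : Fin r → A, ∑ j, v j • e j = v := fun v => by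
    funext k
    simp [e, Pi.single_apply, Finset.sum_apply]
  have hl : ∀ x, inv (tensorToCompletion I N _ x) = x := by
    intro x
    induction x using TensorProduct.induction_on with
    | zero => simp [inv]
    | add a b ha hb =>
      simp only [inv, map_add, tmul_add, Finset.sum_add_distrib] at ha hb ⊢
      rw [ha, hb]
    | tmul v y =>
      simp only [inv, tensorToCompletion_tmul, AdicCompletion.map_comp_apply, hpr, map_smul_apply,
        AdicCompletion.map_id, LinearMap.id_apply, ← TensorProduct.smul_tmul, ← TensorProduct.sum_tmul, hsum]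
  have hid : (∑ j, (TensorProduct.mk A (Fin r → A) N (e j)).comp (pr j)) = LinearMap.id := by
    refine TensorProduct.ext' fun v n => ?_
    simp only [LinearMap.coe_sum, Finset.sum_apply, LinearMap.comp_apply, LinearMap.id_apply]
    conv_rhs => rw [← hsum v, TensorProduct.sum_tmul]
    exact Finset.sum_congr rfl fun j _ => by simp [pr, TensorProduct.smul_tmul]
  have hr : ∀ y, tensorToCompletion I N _ (inv y) = y := by
    intro y
    have key : ∀ s : Finset (Fin r), AdicCompletion.map I
        (∑ j ∈ s, (TensorProduct.mk A (Fin r → A) N (e j)).comp (pr j)) y =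
          ∑ j ∈ s, AdicCompletion.map I ((TensorProduct.mk A (Fin r → A) N (e j)).comp (pr j)) y := by
      intro s
      classical
      induction s using Finset.induction with
      | empty => simp [AdicCompletion.map_zero]
      | insert j s hj ih => rw [Finset.sum_insert hj, Finset.sum_insert hj, map_add_apply, ih]
    simp only [inv, map_sum, tensorToCompletion_tmul, AdicCompletion.map_comp_apply]
    rw [← key, hid, AdicCompletion.map_id]
    rfl
  exact ⟨LeftInverse.injective hl, RightInverse.surjective hr⟩

theorem tensorToCompletion_surjective (M : Type u) [AddCommGroup M] [Module A M] [Module.Finite A M] :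
    Surjective (tensorToCompletion I N M) := fun y => by
  obtain ⟨r, p, hp⟩ := Module.Finite.exists_fin' A M
  obtain ⟨z, rfl⟩ := AdicCompletion.map_surjective I (LinearMap.rTensor_surjective N hp) y
  obtain ⟨w, rfl⟩ := (tensorToCompletion_free_bijective I N r).2 z
  exact ⟨p.rTensor _ w, (tensorToCompletion_natural I N p w).symm⟩

/-- Completion commutes with tensoring a flat module with a finite module. -/
theorem tensorToCompletion_bijective [IsNoetherianRing A] [Module.Flat A N] (M : Type u) [AddCommGroup M]
    [Module A M] [Module.Finite A M] : Bijective (tensorToCompletion I N M) := by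
  refine ⟨(injective_iff_map_eq_zero _).2 fun x hx => ?_, tensorToCompletion_surjective I N M⟩
  obtain ⟨r, p, hp⟩ := Module.Finite.exists_fin' A M
  obtain ⟨w, rfl⟩ := LinearMap.rTensor_surjective (AdicCompletion I N) hp x
  rw [← tensorToCompletion_natural] at hx
  obtain ⟨c, hc⟩ := exists_bound_tensor I N (LinearMap.ker p)
  have hex := rTensor_exact N (LinearMap.exact_subtype_ker_map p) hp
  let i : LinearMap.ker p ⊗[A] N →ₗ[A] (Fin r → A) ⊗[A] N := (LinearMap.ker p).subtype.rTensor N
  let g : (Fin r → A) ⊗[A] N →ₗ[A] M ⊗[A] N := p.rTensor N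
  have hex' : Exact i g := hex
  have hc' : ∀ n, (I ^ (n + c) • ⊤ : Submodule A ((Fin r → A) ⊗[A] N)).comap i ≤ I ^ n • ⊤ := hc
  obtain ⟨z, hz⟩ := (map_exact_of_bound (K := ↥(LinearMap.ker p) ⊗[A] N) (M := (Fin r → A) ⊗[A] N) (N := M ⊗[A] N) i g (LinearMap.rTensor_surjective N hp) hex' c hc' _).1 hx
  obtain ⟨v, rfl⟩ := tensorToCompletion_surjective I N (LinearMap.ker p) z
  rw [tensorToCompletion_natural] at hz
  rw [← (tensorToCompletion_free_bijective I N r).1 hz, ← LinearMap.rTensor_comp_apply,
    show p.comp (LinearMap.ker p).subtype = 0 from LinearMap.ext fun y => y.2]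
  simp

/-- The completion of a flat module over a Noetherian ring is flat. -/
theorem flat_adicCompletion_of_flat [IsNoetherianRing A] [Module.Flat A N] :
    Module.Flat A (AdicCompletion I N) := by
  rw [Module.Flat.iff_rTensor_injective']
  intro J
  rw [injective_iff_map_eq_zero]
  intro x hx
  obtain ⟨c, hc⟩ := exists_bound_tensor I N J
  apply (tensorToCompletion_bijective I N J).1
  rw [map_zero]
  apply map_injective_of_bound (J.subtype.rTensor N) c hc
  rw [tensorToCompletion_natural, map_zero, hx, map_zero]

/-- Modulo the ideal a module does not see its completion. -/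
theorem rTensor_of_bijective {I : Ideal A} (hI : I.FG) {X : Type u} [AddCommGroup X] [Module A X]
    (hX : ∀ a ∈ I, ∀ x : X, a • x = 0) :
    Bijective ((AdicCompletion.of I N).rTensor X) := by
  have hkill : ∀ {Y : Type u} [AddCommGroup Y] [Module A Y] (y : Y), y ∈ (I • ⊤ : Submodule A Y) →
      ∀ x : X, y ⊗ₜ[A] x = 0 := fun {Y} _ _ y hy x => Submodule.smul_induction_on hy
    (fun a ha z _ => by rw [TensorProduct.smul_tmul, hX a ha x, TensorProduct.tmul_zero])
    (fun u v hu hv => by rw [TensorProduct.add_tmul, hu, hv, add_zero])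
  let g : (N ⧸ (I ^ 1 • ⊤ : Submodule A N)) →ₗ[A] (X →ₗ[A] N ⊗[A] X) :=
    Submodule.liftQ _ (TensorProduct.mk A N X) fun n hn => LinearMap.ext fun x => hkill n (by rwa [pow_one] at hn) x
  let inv : AdicCompletion I N ⊗[A] X →ₗ[A] N ⊗[A] X :=
    TensorProduct.lift (g.comp (AdicCompletion.eval I N 1))
  have hl : ∀ z, inv ((AdicCompletion.of I N).rTensor X z) = z := by
    intro z
    induction z using TensorProduct.induction_on with
    | zero => simp
    | add a b ha hb => simp [map_add, ha, hb]
    | tmul n x => rfl
  refine ⟨LeftInverse.injective hl, fun t => ?_⟩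
  induction t using TensorProduct.induction_on with
  | zero => exact ⟨0, map_zero _⟩
  | add a b ha hb =>
    obtain ⟨x, rfl⟩ := ha
    obtain ⟨y, rfl⟩ := hb
    exact ⟨x + y, map_add _ _ _⟩
  | tmul y x =>
    obtain ⟨n, hn⟩ := Submodule.Quotient.mk_surjective _ (AdicCompletion.eval I N 1 y)
    have h : y - AdicCompletion.of I N n ∈ (I • ⊤ : Submodule A (AdicCompletion I N)) := by
      have h1 : y - AdicCompletion.of I N n ∈ (I ^ 1 • ⊤ : Submodule A (AdicCompletion I N)) := by
        rw [AdicCompletion.pow_smul_top_eq_ker_eval hI, LinearMap.mem_ker, map_sub, ← hn]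
        exact sub_eq_zero.2 rfl
      rwa [pow_one] at h1
    have h0 := hkill _ h x
    rw [TensorProduct.sub_tmul, sub_eq_zero] at h0
    exact ⟨n ⊗ₜ x, by rw [LinearMap.rTensor_tmul, h0]⟩

end GrothLib.AdicExtra
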