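import Groth.Agent.Lib.AdicExtra.Complete
import Mathlib.RingTheory.AdicCompletion.Algebra
import Mathlib.Algebra.Polynomial.Taylor
import Mathlib.Algebra.Polynomial.Identities
import Mathlib.RingTheory.Jacobson.Ideal

/-! Units in completions, Hensel's lemma for arbitrary polynomials, multi-generator completeness. -/

namespace GrothLib.AdicExtra

universe u v

variable {A : Type u} [CommRing A] {I : Ideal A}

theorem isUnit_of_isUnit_evalOne (x : AdicCompletion I A)
    (hx : IsUnit (AdicCompletion.evalOneₐ I x)) : IsUnit x := by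
  have hn : ∀ n, IsUnit (x.val n) := by
    intro n
    obtain ⟨a, ha⟩ := AdicCompletion.mk_surjective I A x
    subst ha
    have h1 : IsUnit (Ideal.Quotient.mk I (a 1)) := by
      have : AdicCompletion.evalOneₐ I (AdicCompletion.mk I A a) = Ideal.Quotient.mk I (a 1) := by
        rw [← AdicCompletion.factorₐ_evalₐ_one, AdicCompletion.evalₐ_mk]
        rfl
      rwa [this] at hx
    show IsUnit (Ideal.Quotient.mk (I ^ n • ⊤ : Ideal A) (a n))
    obtain ⟨b, hb⟩ := Ideal.Quotient.mk_surjective (h1.unit⁻¹.val : A ⧸ I)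
    have hd : a n * b - 1 ∈ I ∨ n = 0 := by
      rcases Nat.eq_zero_or_pos n with h | h
      · exact Or.inr h
      left
      have h2 : a n - a 1 ∈ I := by
        have := SModEq.sub_mem.1 (a.property h).symm
        simpa using this
      have h3 : a 1 * b - 1 ∈ I := by
        rw [← Ideal.Quotient.eq, map_mul, map_one, hb]
        exact h1.mul_val_inv
      have : a n * b - 1 = (a n - a 1) * b + (a 1 * b - 1) := by ring
      rw [this]
      exact add_mem (Ideal.mul_mem_right _ _ h2) h3
    rcases hd with hd | rfl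
    · refine isUnit_of_mul_isUnit_left (y := Ideal.Quotient.mk _ b) ?_
      rw [← map_mul]
      have hnil : IsNilpotent (Ideal.Quotient.mk (I ^ n • ⊤ : Ideal A) (a n * b - 1)) := by
        refine ⟨n, ?_⟩
        rw [← map_pow, Ideal.Quotient.eq_zero_iff_mem, smul_eq_mul, Ideal.mul_top]
        exact Ideal.pow_mem_pow hd n
      simpa using hnil.isUnit_add_one
    · have : Subsingleton (A ⧸ (I ^ 0 • ⊤ : Ideal A)) := by
        rw [Ideal.Quotient.subsingleton_iff]
        simp
      exact isUnit_of_subsingleton _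
  choose y hy using fun n => IsUnit.exists_right_inv (hn n)
  refine IsUnit.of_mul_eq_one ⟨y, fun {m n} h => ?_⟩ (AdicCompletion.ext hy)
  have h1 : AdicCompletion.transitionMap I A h (x.val n * y n) = 1 := by
    rw [hy n]; rfl
  have h2 : AdicCompletion.transitionMap I A h (x.val n * y n) =
      AdicCompletion.transitionMap I A h (x.val n) * AdicCompletion.transitionMap I A h (y n) :=
    Quotient.inductionOn₂' (x.val n) (y n) fun _ _ => rfl
  rw [h2, x.prop h] at h1
  exact (hn m).mul_left_cancel (h1.trans (hy m).symm)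

theorem ker_evalOne_le_jacobson :
    RingHom.ker (AdicCompletion.evalOneₐ I).toRingHom ≤
      (⊥ : Ideal (AdicCompletion I A)).jacobson := by
  intro x hx
  rw [Ideal.mem_jacobson_bot]
  refine fun y => isUnit_of_isUnit_evalOne _ ?_
  have hx' : AdicCompletion.evalOneₐ I x = 0 := hx
  rw [map_add, map_mul, hx', zero_mul, zero_add, map_one]
  exact isUnit_one

theorem map_le_ker_evalOne :
    I.map (algebraMap A (AdicCompletion I A)) ≤
      RingHom.ker (AdicCompletion.evalOneₐ I).toRingHom := by
  rw [Ideal.map_le_iff_le_comap]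
  intro a ha
  rw [Ideal.mem_comap, RingHom.mem_ker]
  show ((AdicCompletion.evalOneₐ I).toRingHom.comp (algebraMap A (AdicCompletion I A))) a = 0
  rw [AdicCompletion.evalOneₐ_comp_algebraMap_eq_mk, Ideal.Quotient.eq_zero_iff_mem]
  exact ha

open Polynomial in
theorem existsUnique_root [IsAdicComplete I A] (P : A[X]) (a₀ : A) (h₀ : P.eval a₀ ∈ I)
    (h₁ : IsUnit (Ideal.Quotient.mk I (P.derivative.eval a₀))) :
    ∃! a : A, a - a₀ ∈ I ∧ P.IsRoot a := by
  obtain ⟨u, hu⟩ := Ideal.Quotient.mk_surjective (h₁.unit⁻¹.val : A ⧸ I)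
  have hu1 : ∀ a, a - a₀ ∈ I → 1 - u * P.derivative.eval a ∈ I := by
    intro a ha
    have h2 : P.derivative.eval a - P.derivative.eval a₀ ∈ I := by
      obtain ⟨z, hz⟩ := Polynomial.sub_dvd_eval_sub a a₀ P.derivative
      rw [hz]; exact Ideal.mul_mem_right _ _ ha
    have h3 : 1 - u * P.derivative.eval a₀ ∈ I := by
      rw [← Ideal.Quotient.eq, map_one, map_mul, hu]
      exact h₁.val_inv_mul.symm
    have : 1 - u * P.derivative.eval a =
        (1 - u * P.derivative.eval a₀) - u * (P.derivative.eval a - P.derivative.eval a₀) := by ring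
    rw [this]
    exact sub_mem h3 (Ideal.mul_mem_left _ _ h2)
  let s : ℕ → A := fun n => Nat.rec a₀ (fun _ a => a - u * P.eval a) n
  have hs : ∀ n, s n - a₀ ∈ I ∧ P.eval (s n) ∈ I ^ (n + 1) := by
    intro n
    induction n with
    | zero => exact ⟨by simp [s], by simpa [s] using h₀⟩
    | succ n ih =>
      obtain ⟨h2, h3⟩ := ih
      have e : s (n + 1) = s n + -(u * P.eval (s n)) := by rw [← sub_eq_add_neg]
      refine ⟨?_, ?_⟩
      · rw [e, add_comm, add_sub_assoc]
        exact add_mem (neg_mem (Ideal.mul_mem_left _ _ (Ideal.pow_le_self n.succ_ne_zero h3))) h2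
      · obtain ⟨k, hk⟩ := P.binomExpansion (s n) (-(u * P.eval (s n)))
        rw [e, hk]
        have e2 : P.eval (s n) + P.derivative.eval (s n) * -(u * P.eval (s n)) +
              k * (-(u * P.eval (s n))) ^ 2 =
            (1 - u * P.derivative.eval (s n)) * P.eval (s n) + k * u ^ 2 * (P.eval (s n)) ^ 2 := by
          ring
        rw [e2]
        refine add_mem ?_ (Ideal.mul_mem_left _ _ ?_)
        · rw [pow_succ']; exact Ideal.mul_mem_mul (hu1 _ h2) h3
        · refine Ideal.pow_le_pow_right (by omega : n + 1 + 1 ≤ (n + 1) * 2) ?_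
          rw [pow_mul]; exact Ideal.pow_mem_pow h3 2
  have hcauchy : ∀ {m n}, m ≤ n → s m ≡ s n [SMOD (I ^ m • ⊤ : Submodule A A)] := by
    intro m n h
    induction h with
    | refl => rfl
    | @step n hmn ih =>
      refine ih.trans ?_
      rw [SModEq.sub_mem, Ideal.smul_eq_mul, Ideal.mul_top]
      show s n - (s n - u * P.eval (s n)) ∈ _
      rw [sub_sub_cancel]
      exact Ideal.mul_mem_left _ _ (Ideal.pow_le_pow_right (le_trans hmn n.le_succ) (hs n).2)
  obtain ⟨a, ha⟩ := IsPrecomplete.prec (inferInstance : IsPrecomplete I A) hcauchy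
  have ha' : ∀ n, s n - a ∈ I ^ n := fun n => by
    have := SModEq.sub_mem.1 (ha n)
    simpa using this
  have ha0 : a - a₀ ∈ I := by
    have := sub_mem (hs 1).1 (by simpa using ha' 1 : s 1 - a ∈ I)
    simpa using this
  have hroot : P.IsRoot a := by
    refine IsHausdorff.haus (inferInstance : IsHausdorff I A) _ fun n => ?_
    rw [SModEq.zero, Ideal.smul_eq_mul, Ideal.mul_top]
    obtain ⟨z, hz⟩ := Polynomial.sub_dvd_eval_sub (s n) a P
    have : P.eval a = P.eval (s n) - (s n - a) * z := by rw [← hz]; ring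
    rw [this]
    exact sub_mem (Ideal.pow_le_pow_right n.le_succ (hs n).2) (Ideal.mul_mem_right _ _ (ha' n))
  refine ⟨a, ⟨ha0, hroot⟩, ?_⟩
  rintro b ⟨hb, hbr⟩
  obtain ⟨k, hk⟩ := P.binomExpansion a (b - a)
  have hk' : (b - a) * (P.derivative.eval a + k * (b - a)) = 0 := by
    have h5 : P.eval (a + (b - a)) = 0 := by simpa using hbr
    rw [hk, hroot.eq_zero] at h5
    linear_combination h5
  have hunit : IsUnit (P.derivative.eval a + k * (b - a)) := by
    have hmem : u * (P.derivative.eval a + k * (b - a)) - 1 ∈ I := by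
      have hba : b - a ∈ I := by simpa using sub_mem hb ha0
      have : u * (P.derivative.eval a + k * (b - a)) - 1 =
          u * k * (b - a) - (1 - u * P.derivative.eval a) := by ring
      rw [this]
      exact sub_mem (Ideal.mul_mem_left _ _ hba) (hu1 a ha0)
    have h := Ideal.mem_jacobson_bot.1 (IsAdicComplete.le_jacobson_bot I hmem) 1
    rw [mul_one, sub_add_cancel] at h
    exact isUnit_of_mul_isUnit_right h
  exact sub_eq_zero.1 ((IsUnit.mul_left_eq_zero hunit).1 hk')

theorem pow_le_span_pow {r : ℕ} (f : Fin r → A) (n : ℕ) :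
    Ideal.span (Set.range f) ^ ((r + 1) * (n + 1)) ≤
      Ideal.span (Set.range fun i => f i ^ (n + 1)) := by
  induction r with
  | zero =>
    rw [Set.range_eq_empty, Ideal.span_empty]
    exact (Ideal.pow_le_self (by omega)).trans bot_le
  | succ r ih =>
    have e1 : Ideal.span (Set.range f) =
        Ideal.span {f 0} ⊔ Ideal.span (Set.range (f ∘ Fin.succ)) := by
      rw [← Ideal.span_union]
      congr 1
      ext x
      constructor
      · rintro ⟨i, rfl⟩; exact Fin.cases (Or.inl rfl) (fun i => Or.inr ⟨i, rfl⟩) i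
      · rintro (rfl | ⟨i, rfl⟩); exacts [⟨0, rfl⟩, ⟨_, rfl⟩]
    rw [e1, show (r + 1 + 1) * (n + 1) = (n + 1) + (r + 1) * (n + 1) by ring]
    refine Ideal.sup_pow_add_le_pow_sup_pow.trans (sup_le ?_ ?_)
    · rw [Ideal.span_singleton_pow, Ideal.span_le, Set.singleton_subset_iff]
      exact Ideal.subset_span ⟨0, rfl⟩
    · refine (ih (f ∘ Fin.succ)).trans (Ideal.span_mono ?_)
      rintro _ ⟨i, rfl⟩; exact ⟨i.succ, rfl⟩

theorem isPrecomplete_of_forall_span_singleton {r : ℕ} (f : Fin r → A) {M : Type v}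
    [AddCommGroup M] [Module A M] (h : ∀ i, IsPrecomplete (Ideal.span {f i}) M) :
    IsPrecomplete (Ideal.span (Set.range f)) M := by
  classical
  set I := Ideal.span (Set.range f) with hI
  refine ⟨fun x hx => ?_⟩
  let z : ℕ → M := fun k => x ((r + 1) * (k + 1))
  have hstep : ∀ k, ∃ y : Fin r → M, ∑ i, f i ^ (k + 1) • y i = z (k + 1) - z k := by
    intro k
    have h1 := Submodule.smul_mono_left (pow_le_span_pow f k)
      (sub_mem_of_forall_succ hx (Nat.mul_le_mul_left (r + 1) (k + 1).le_succ))
    refine Submodule.smul_induction_on h1 ?_ ?_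
    · intro b hb q _
      obtain ⟨c, rfl⟩ := (Submodule.mem_span_range_iff_exists_fun A).1 hb
      exact ⟨fun j => c j • q, by
        rw [Finset.sum_smul]
        exact Finset.sum_congr rfl fun j _ => by rw [smul_smul, smul_eq_mul, mul_comm]⟩
    · rintro p q ⟨y, rfl⟩ ⟨y', rfl⟩
      exact ⟨y + y', by simp [Finset.sum_add_distrib, smul_add]⟩
  choose y hy using hstep
  let S : Fin r → ℕ → M := fun i k => ∑ j ∈ Finset.range k, f i ^ (j + 1) • y j i
  have hlim : ∀ i, ∃ L, ∀ k, S i k ≡ L [SMOD (Ideal.span {f i} ^ k • ⊤ : Submodule A M)] := by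
    intro i
    refine IsPrecomplete.prec (h i) fun {m p} hmp => ?_
    rw [SModEq.sub_mem]
    show (∑ j ∈ Finset.range m, f i ^ (j + 1) • y j i) - (∑ j ∈ Finset.range p, f i ^ (j + 1) • y j i) ∈ _
    rw [← neg_sub, ← Finset.sum_Ico_eq_sub _ hmp]
    refine neg_mem (Submodule.sum_mem _ fun j hj => Submodule.smul_mem_smul ?_ trivial)
    exact Ideal.pow_le_pow_right (le_trans (Finset.mem_Ico.1 hj).1 j.le_succ)
      (Ideal.pow_mem_pow (Ideal.mem_span_singleton_self _) (j + 1))
  choose L hL using hlim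
  have htel : ∀ k, z k = z 0 + ∑ i, S i k := by
    intro k
    induction k with
    | zero => simp [S]
    | succ k ih =>
      have : ∑ i, S i (k + 1) = ∑ i, S i k + (z (k + 1) - z k) := by
        rw [← hy k, ← Finset.sum_add_distrib]
        exact Finset.sum_congr rfl fun i _ => by simp [S, Finset.sum_range_succ]
      rw [this, ← add_assoc (z 0), ← ih]
      abel
  refine ⟨z 0 + ∑ i, L i, fun k => ?_⟩
  refine SModEq.trans (hx (le_trans k.le_succ (Nat.le_mul_of_pos_left (k + 1) r.succ_pos))) ?_
  show z k ≡ _ [SMOD _]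
  rw [htel k, SModEq.sub_mem, add_sub_add_left_eq_sub, ← Finset.sum_sub_distrib]
  exact Submodule.sum_mem _ fun i _ => Submodule.smul_mono_left
    (Ideal.pow_right_mono (Ideal.span_mono (Set.singleton_subset_iff.2 (Set.mem_range_self i))) k)
    (SModEq.sub_mem.1 (hL i k))

end GrothLib.AdicExtra
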